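import Cfsg.Prelude.Def_Transfer

/-!
# Transfer to an elementary abelian group as a product over the cosets

For a homomorphism `f` of `H` into a commutative group of exponent two, the transfer at `p` is the
product over all cosets `q` of `f (T(p q)⁻¹ p T(q))`. The product over the orbit of a coset under a
subgroup is trivial as soon as it is trivial over the orbit under an intermediate subgroup
containing the stabilizer.
-/

set_option autoImplicit false
set_option linter.unusedSectionVars false

namespace CfsgLib.Large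

open Cfsg

variable {G : Type*} [Group G] [Finite G] {A : Type*} [CommGroup A]
variable (H : Subgroup G) (f : H →* A)

/-- The cocycle of the transfer. -/
noncomputable def coc (p : G) (q : G ⧸ H) : A :=
  f ⟨(p • q).out⁻¹ * p * q.out, by
    rw [mul_assoc]
    refine QuotientGroup.eq.mp ?_
    rw [← smul_eq_mul, ← MulAction.Quotient.smul_coe, QuotientGroup.out_eq', QuotientGroup.out_eq']⟩

theorem coc_mul (a b : G) (q : G ⧸ H) : coc H f (a * b) q = coc H f a (b • q) * coc H f b q := by
  rw [coc, coc, coc, ← map_mul]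
  congr 1
  apply Subtype.ext
  simp only [Subgroup.coe_mul, mul_smul]
  group

theorem coc_one (q : G ⧸ H) : coc H f 1 q = 1 := by
  have h := coc_mul H f 1 1 q
  rw [mul_one, one_smul] at h
  exact mul_eq_left.mp h.symm

/-- The cosets in the orbit of `o` under `D`. -/
noncomputable def orb (D : Subgroup G) (o : G ⧸ H) : Finset (G ⧸ H) :=
  letI := Fintype.ofFinite (G ⧸ H)
  open Classical in Finset.univ.filter fun q => ∃ d ∈ D, d • o = q

theorem mem_orb {D : Subgroup G} {o q : G ⧸ H} : q ∈ orb H D o ↔ ∃ d ∈ D, d • o = q := by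
  simp [orb]

/-- The product of the cocycle over an orbit. -/
noncomputable def orbProd (D : Subgroup G) (o : G ⧸ H) (p : G) : A :=
  ∏ q ∈ orb H D o, coc H f p q

theorem smul_mem_orb {D : Subgroup G} {o q : G ⧸ H} {d : G} (hd : d ∈ D) (hq : q ∈ orb H D o) :
    d • q ∈ orb H D o := by
  obtain ⟨a, ha, rfl⟩ := (mem_orb H).mp hq
  exact (mem_orb H).mpr ⟨d * a, D.mul_mem hd ha, mul_smul _ _ _⟩

theorem orbProd_mul (D : Subgroup G) (o : G ⧸ H) (a : G) {b : G} (hb : b ∈ D) :
    orbProd H f D o (a * b) = orbProd H f D o a * orbProd H f D o b := by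
  simp only [orbProd, coc_mul, Finset.prod_mul_distrib]
  congr 1
  exact Finset.prod_bij' (fun q _ => b • q) (fun q _ => b⁻¹ • q)
    (fun q hq => smul_mem_orb H hb hq) (fun q hq => smul_mem_orb H (D.inv_mem hb) hq)
    (fun q _ => inv_smul_smul b q) (fun q _ => smul_inv_smul b q) (fun q _ => rfl)

theorem orbProd_sq (hf : ∀ h, f h * f h = 1) (D : Subgroup G) (o : G ⧸ H) (p : G) :
    orbProd H f D o p * orbProd H f D o p = 1 := by
  rw [orbProd, ← Finset.prod_mul_distrib]
  exact Finset.prod_eq_one fun q _ => hf _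

theorem orbProd_one (D : Subgroup G) (o : G ⧸ H) : orbProd H f D o 1 = 1 :=
  Finset.prod_eq_one fun q _ => coc_one H f q

/-- The orbit of a subgroup fixing `o`. -/
theorem orbProd_of_fixed {D : Subgroup G} {o : G ⧸ H} (h : ∀ d ∈ D, d • o = o) (p : G) :
    orbProd H f D o p = coc H f p o := by
  have : orb H D o = {o} := by
    ext q
    rw [mem_orb, Finset.mem_singleton]
    exact ⟨fun ⟨d, hd, e⟩ => e ▸ h d hd, fun e => ⟨1, D.one_mem, by rw [one_smul, e]⟩⟩
  rw [orbProd, this, Finset.prod_singleton]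

/-- A subgroup twice as large as `D`, with an element `e` normalizing `D`. -/
def double (D : Subgroup G) (e : G) (he : ∀ d ∈ D, e⁻¹ * d * e ∈ D) (he2 : e * e ∈ D) :
    Subgroup G :=
  Subgroup.copy (D ⊔ Subgroup.zpowers e) {x | x ∈ D ∨ e * x ∈ D} <| by
    apply Set.Subset.antisymm
    · rintro x (h | h)
      · exact Subgroup.mem_sup_left h
      · rw [show x = e⁻¹ * (e * x) by group]
        exact Subgroup.mul_mem _ (Subgroup.inv_mem _ (Subgroup.mem_sup_right (Subgroup.mem_zpowers e)))
          (Subgroup.mem_sup_left h)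
    · have hinv : ∀ d ∈ D, e * d * e⁻¹ ∈ D := fun d hd => by
        have := D.mul_mem (D.mul_mem he2 (he d hd)) (D.inv_mem he2)
        convert this using 1
        group
      let S : Subgroup G :=
        { carrier := {x | x ∈ D ∨ e * x ∈ D}
          one_mem' := .inl D.one_mem
          mul_mem' := by
            rintro a b (ha | ha) (hb | hb)
            · exact .inl (D.mul_mem ha hb)
            · refine .inr ?_
              rw [show e * (a * b) = (e * a * e⁻¹) * (e * b) by group]
              exact D.mul_mem (hinv a ha) hb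
            · refine .inr ?_
              rw [← mul_assoc]
              exact D.mul_mem ha hb
            · refine .inl ?_
              rw [show a * b = (e⁻¹ * ((e * a) * (e * e)⁻¹) * e) * (e * b) by group]
              exact D.mul_mem (he _ (D.mul_mem ha (D.inv_mem he2))) hb
          inv_mem' := by
            rintro a (ha | ha)
            · exact .inl (D.inv_mem ha)
            · refine .inr ?_
              rw [show e * a⁻¹ = e * ((e * a)⁻¹) * e⁻¹ * (e * e) by group]
              exact D.mul_mem (hinv _ (D.inv_mem ha)) he2 }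
      intro x hx
      exact (sup_le (fun d hd => (show d ∈ S from .inl hd))
        (Subgroup.zpowers_le.mpr (show e ∈ S from .inr he2)) : D ⊔ Subgroup.zpowers e ≤ S) hx

variable {D : Subgroup G} {e : G} {he : ∀ d ∈ D, e⁻¹ * d * e ∈ D} {he2 : e * e ∈ D}

theorem mem_double {x : G} : x ∈ double D e he he2 ↔ x ∈ D ∨ e * x ∈ D := Iff.rfl

theorem le_double : D ≤ double D e he he2 := fun _ h => .inl h

theorem self_mem_double : e ∈ double D e he he2 := .inr he2

theorem double_le {P : Subgroup G} (hD : D ≤ P) (heP : e ∈ P) : double D e he he2 ≤ P := by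
  rintro x (h | h)
  · exact hD h
  · rw [show x = e⁻¹ * (e * x) by group]
    exact P.mul_mem (P.inv_mem heP) (hD h)

/-- The orbit under the doubled subgroup has two halves. -/
theorem orbProd_double (o : G ⧸ H) (hL : ∀ p ∈ double D e he he2, p • o = o → p ∈ D) (heD : e ∉ D)
    (p : G) : orbProd H f (double D e he he2) o p =
      orbProd H f D o p * ∏ q ∈ orb H D o, coc H f p (e • q) := by
  classical
  have hunion : orb H (double D e he he2) o = orb H D o ∪ (orb H D o).image (e • ·) := by
    ext q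
    rw [Finset.mem_union, Finset.mem_image, mem_orb, mem_orb]
    constructor
    · rintro ⟨d, hd | hd, rfl⟩
      · exact .inl ⟨d, hd, rfl⟩
      · refine .inr ⟨((e * e)⁻¹ * (e * d)) • o,
          (mem_orb H).mpr ⟨_, D.mul_mem (D.inv_mem he2) hd, rfl⟩, ?_⟩
        rw [← mul_smul]
        congr 1
        group
    · rintro (⟨d, hd, rfl⟩ | ⟨q', hq', rfl⟩)
      · exact ⟨d, le_double hd, rfl⟩
      · obtain ⟨d, hd, rfl⟩ := (mem_orb H).mp hq'
        exact ⟨e * d, Subgroup.mul_mem _ self_mem_double (le_double hd), mul_smul _ _ _⟩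
  have hdisj : Disjoint (orb H D o) ((orb H D o).image (e • ·)) := by
    rw [Finset.disjoint_left]
    intro q hq hq'
    rw [Finset.mem_image] at hq'
    obtain ⟨q', hq', rfl⟩ := hq'
    obtain ⟨a, ha, h1⟩ := (mem_orb H).mp hq
    obtain ⟨b, hb, rfl⟩ := (mem_orb H).mp hq'
    have h2 : (a⁻¹ * (e * b)) • o = o := by rw [mul_smul, mul_smul, ← h1, inv_smul_smul]
    have h3 := hL _ (Subgroup.mul_mem _ (Subgroup.inv_mem _ (le_double ha))
      (Subgroup.mul_mem _ self_mem_double (le_double hb))) h2
    refine heD ?_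
    have := D.mul_mem (D.mul_mem ha h3) (D.inv_mem hb)
    convert this using 1
    group
  rw [orbProd, hunion, Finset.prod_union hdisj,
    Finset.prod_image (fun a _ b _ h => MulAction.injective e h)]
  rfl

/-- The value on an element of `D`. -/
theorem orbProd_double_of_mem (o : G ⧸ H) (hL : ∀ p ∈ double D e he he2, p • o = o → p ∈ D)
    (heD : e ∉ D) {d : G} (hd : d ∈ D) :
    orbProd H f (double D e he he2) o d =
      orbProd H f D o d * orbProd H f D o (e⁻¹ * d * e) := by
  rw [orbProd_double H f o hL heD]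
  congr 1
  have h1 : ∀ q, coc H f d (e • q) * coc H f e q =
      coc H f e ((e⁻¹ * d * e) • q) * coc H f (e⁻¹ * d * e) q := fun q => by
    rw [← coc_mul, ← coc_mul]
    congr 1
    group
  have h2 := Finset.prod_congr (s₁ := orb H D o) rfl fun q _ => h1 q
  rw [Finset.prod_mul_distrib, Finset.prod_mul_distrib] at h2
  have hd' := he d hd
  rw [Finset.prod_bij' (s := orb H D o) (t := orb H D o)
    (f := fun q => coc H f e ((e⁻¹ * d * e) • q)) (g := coc H f e)
    (fun q _ => (e⁻¹ * d * e) • q) (fun q _ => (e⁻¹ * d * e)⁻¹ • q)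
    (fun q hq => smul_mem_orb H hd' hq) (fun q hq => smul_mem_orb H (D.inv_mem hd') hq)
    (fun q _ => inv_smul_smul _ q) (fun q _ => smul_inv_smul _ q) (fun q _ => rfl),
    mul_comm (∏ q ∈ orb H D o, coc H f e q)] at h2
  exact mul_right_cancel h2

/-- The value at the new element. -/
theorem orbProd_double_self (o : G ⧸ H) (hL : ∀ p ∈ double D e he he2, p • o = o → p ∈ D)
    (heD : e ∉ D) : orbProd H f (double D e he he2) o e = orbProd H f D o (e * e) := by
  rw [orbProd_double H f o hL heD, orbProd, orbProd, ← Finset.prod_mul_distrib]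
  exact Finset.prod_congr rfl fun q _ => by rw [coc_mul, mul_comm]

/-- Triviality over the orbit of an intermediate subgroup gives triviality over the orbit. -/
theorem orbProd_eq_one_of_le {P D : Subgroup G} {o : G ⧸ H} (hDP : D ≤ P)
    (hL : ∀ p ∈ P, p • o = o → p ∈ D) (hD : ∀ d ∈ D, orbProd H f D o d = 1) {p : G} (hp : p ∈ P) :
    orbProd H f P o p = 1 := by
  classical
  haveI : Fintype (P ⧸ D.subgroupOf P) := Fintype.ofFinite _
  set R : P ⧸ D.subgroupOf P → G := fun b => ((b.out : P) : G) with hR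
  have hRP : ∀ b, R b ∈ P := fun b => b.out.2
  have hRmk : ∀ a : P, (R (QuotientGroup.mk a))⁻¹ * (a : G) ∈ D := fun a => by
    have := QuotientGroup.eq.mp (QuotientGroup.out_eq' (QuotientGroup.mk a : P ⧸ D.subgroupOf P))
    simpa [hR, Subgroup.mem_subgroupOf] using this
  have hbij : orbProd H f P o p =
      ∏ bv ∈ Finset.univ ×ˢ orb H D o, coc H f p (R bv.1 • bv.2) := by
    refine (Finset.prod_bij (fun bv _ => R bv.1 • bv.2) (fun bv hbv => ?_) (fun bv hbv bv' hbv' h => ?_)
      (fun q hq => ?_) fun bv _ => rfl).symm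
    · obtain ⟨d, hd, e'⟩ := (mem_orb H).mp (Finset.mem_product.mp hbv).2
      exact (mem_orb H).mpr ⟨R bv.1 * d, P.mul_mem (hRP _) (hDP hd), by rw [mul_smul, e']⟩
    · obtain ⟨a, ha, ea⟩ := (mem_orb H).mp (Finset.mem_product.mp hbv).2
      obtain ⟨a', ha', ea'⟩ := (mem_orb H).mp (Finset.mem_product.mp hbv').2
      have hfix : ((R bv'.1 * a')⁻¹ * (R bv.1 * a)) • o = o := by
        rw [mul_smul, mul_smul (R bv.1), ea, h, ← ea', ← mul_smul (R bv'.1)]
        exact inv_smul_smul _ _
      have h3 := hL _ (P.mul_mem (P.inv_mem (P.mul_mem (hRP _) (hDP ha')))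
        (P.mul_mem (hRP _) (hDP ha))) hfix
      have h4 : (R bv'.1)⁻¹ * R bv.1 ∈ D := by
        have := D.mul_mem (D.mul_mem ha' h3) (D.inv_mem ha)
        convert this using 1
        group
      have h5 : bv.1 = bv'.1 := by
        rw [← QuotientGroup.out_eq' bv.1, ← QuotientGroup.out_eq' bv'.1]
        exact (QuotientGroup.eq.mpr (Subgroup.mem_subgroupOf.mpr h4)).symm
      refine Prod.ext h5 (MulAction.injective (R bv.1) ?_)
      show R bv.1 • bv.2 = R bv.1 • bv'.2
      rw [h, h5]
    · obtain ⟨a, ha, rfl⟩ := (mem_orb H).mp hq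
      refine ⟨(QuotientGroup.mk ⟨a, ha⟩, ((R (QuotientGroup.mk ⟨a, ha⟩))⁻¹ * a) • o),
        Finset.mem_product.mpr ⟨Finset.mem_univ _, (mem_orb H).mpr ⟨_, hRmk ⟨a, ha⟩, rfl⟩⟩, ?_⟩
      rw [← mul_smul, mul_inv_cancel_left]
  have hblock : ∀ b, (∏ v ∈ orb H D o, coc H f p (R b • v)) * orbProd H f D o (R b) =
      orbProd H f D o (R ((⟨p, hp⟩ : P) • b)) := fun b => by
    set b' := (⟨p, hp⟩ : P) • b with hb'
    have hd : (R b')⁻¹ * (p * R b) ∈ D := by
      have := hRmk (⟨p, hp⟩ * b.out)
      rwa [show (QuotientGroup.mk (⟨p, hp⟩ * b.out) : P ⧸ D.subgroupOf P) = b' by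
        rw [hb', ← smul_eq_mul, ← MulAction.Quotient.smul_coe, QuotientGroup.out_eq']] at this
    rw [orbProd, ← Finset.prod_mul_distrib]
    calc ∏ v ∈ orb H D o, coc H f p (R b • v) * coc H f (R b) v
        = orbProd H f D o (R b' * ((R b')⁻¹ * (p * R b))) := by
          rw [mul_inv_cancel_left]
          exact Finset.prod_congr rfl fun v _ => (coc_mul H f _ _ _).symm
      _ = orbProd H f D o (R b') := by rw [orbProd_mul H f D o _ hd, hD _ hd, mul_one]
  have h := Finset.prod_congr (s₁ := Finset.univ) rfl fun b (_ : b ∈ _) => hblock b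
  rw [Finset.prod_mul_distrib] at h
  have hperm : ∏ b, orbProd H f D o (R ((⟨p, hp⟩ : P) • b)) = ∏ b, orbProd H f D o (R b) :=
    Equiv.prod_comp (MulAction.toPerm (⟨p, hp⟩ : P)) fun b => orbProd H f D o (R b)
  rw [hperm] at h
  rw [hbij, Finset.prod_product]
  exact mul_eq_right.mp h

/-- A homomorphism into a group of exponent two is trivial when `O²(G) = G`. -/
theorem hom_eq_one_of_exp_two (hres : pResidual 2 G = ⊤) (φ : G →* A) (hφ : ∀ g, φ g * φ g = 1)
    (g : G) : φ g = 1 := by
  have hle : pResidual 2 G ≤ φ.ker := (Subgroup.closure_le _).mpr fun a ha => by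
    have h1 : orderOf (φ a) ∣ orderOf a := orderOf_map_dvd φ a
    have h2 : orderOf (φ a) ∣ 2 := orderOf_dvd_of_pow_eq_one (by rw [pow_two, hφ])
    exact orderOf_eq_one_iff.mp (Nat.eq_one_of_dvd_coprimes ha h1 h2)
  exact hle (hres ▸ Subgroup.mem_top g)

/-- The product over all cosets is trivial. -/
theorem prod_coc_eq_one [Fintype (G ⧸ H)] (hres : pResidual 2 G = ⊤) (hf : ∀ h, f h * f h = 1)
    (g : G) : ∏ q, coc H f g q = 1 := by
  let φ : G →* A :=
    { toFun := fun a => ∏ q, coc H f a q
      map_one' := Finset.prod_eq_one fun q _ => coc_one H f q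
      map_mul' := fun a b => by
        simp only [coc_mul, Finset.prod_mul_distrib]
        congr 1
        exact Equiv.prod_comp (MulAction.toPerm b) (coc H f a) }
  exact hom_eq_one_of_exp_two hres φ
    (fun a => by
      show (∏ q, coc H f a q) * ∏ q, coc H f a q = 1
      rw [← Finset.prod_mul_distrib]
      exact Finset.prod_eq_one fun q _ => hf _) g

/-- If every other orbit contributes trivially, the homomorphism is trivial on `P`. -/
theorem apply_eq_one_of_orbits (hres : pResidual 2 G = ⊤) (hf : ∀ h, f h * f h = 1) (P : Subgroup G)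
    (hPH : P ≤ H)
    (horb : ∀ o : G ⧸ H, o ≠ ((1 : G) : G ⧸ H) → ∀ p ∈ P, orbProd H f P o p = 1) {t : G}
    (ht : t ∈ P) : f ⟨t, hPH ht⟩ = 1 := by
  classical
  haveI : Fintype (G ⧸ H) := Fintype.ofFinite _
  set o₁ : G ⧸ H := ((1 : G) : G ⧸ H) with ho₁
  have hfix : ∀ p ∈ P, p • o₁ = o₁ := fun p hp => by
    rw [ho₁, MulAction.Quotient.smul_coe, smul_eq_mul, mul_one]
    exact QuotientGroup.eq.mpr (by simpa using H.inv_mem (hPH hp))
  have hS : ∀ S : Finset (G ⧸ H), o₁ ∉ S → (∀ q ∈ S, ∀ p ∈ P, p • q ∈ S) →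
      ∏ q ∈ S, coc H f t q = 1 := by
    intro S
    induction S using Finset.strongInduction with
    | H S ih =>
      intro h1 hinv
      rcases S.eq_empty_or_nonempty with rfl | ⟨o, ho⟩
      · exact Finset.prod_empty
      · have hsub : orb H P o ⊆ S := fun q hq => by
          obtain ⟨a, ha, rfl⟩ := (mem_orb H).mp hq
          exact hinv o ho a ha
        have hmem : o ∈ orb H P o := (mem_orb H).mpr ⟨1, P.one_mem, one_smul _ _⟩
        rw [← Finset.prod_sdiff hsub, show ∏ q ∈ orb H P o, coc H f t q = 1 from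
          horb o (fun e => h1 (e ▸ ho)) t ht, mul_one]
        refine ih _ (Finset.sdiff_ssubset hsub ⟨o, hmem⟩) (fun h => h1 (Finset.mem_sdiff.mp h).1)
          fun q hq a ha => ?_
        rw [Finset.mem_sdiff] at hq ⊢
        refine ⟨hinv q hq.1 a ha, fun h => hq.2 ?_⟩
        have := smul_mem_orb H (P.inv_mem ha) h
        rwa [inv_smul_smul] at this
  have hall := prod_coc_eq_one H f hres hf t
  rw [← Finset.prod_erase_mul _ _ (Finset.mem_univ o₁)] at hall
  rw [hS _ (Finset.notMem_erase _ _) (fun q hq p hp => by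
    rw [Finset.mem_erase] at hq ⊢
    refine ⟨fun h => hq.1 ?_, Finset.mem_univ _⟩
    rw [← inv_smul_smul p q, h, hfix _ (P.inv_mem hp)]), one_mul] at hall
  set u := o₁.out with hu
  have huH : u ∈ H := by
    have := QuotientGroup.eq.mp (QuotientGroup.out_eq' o₁)
    simpa [hu] using this
  have e : coc H f t o₁ = (f ⟨u, huH⟩)⁻¹ * f ⟨t, hPH ht⟩ * f ⟨u, huH⟩ := by
    rw [coc, ← map_inv, ← map_mul, ← map_mul]
    congr 1
    apply Subtype.ext
    simp only [hfix t ht, Subgroup.coe_mul, Subgroup.coe_inv, ← hu]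
  rw [e, mul_comm, mul_inv_cancel_left] at hall
  exact hall

end CfsgLib.Large
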