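import Cfsg.Prelude.Def_Transfer
import Cfsg.Prelude.Def_Solvable
import Cfsg.Agent.Lib.OddOmega.Basic

/-!
# An involution centralizer with extraspecial 2-core

Elementary facts about `E = O₂(C(z))` when it is extraspecial and contains its centralizer.
-/

set_option autoImplicit false
set_option linter.unusedSectionVars false

namespace CfsgLib.Large

open Cfsg
open scoped commutatorElement

variable {G : Type*} [Group G]

/-- The facts about the core used here. -/
structure Core (z : G) (E : Subgroup G) : Prop where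
  z_sq : z * z = 1
  z_ne : z ≠ 1
  z_mem : z ∈ E
  le : E ≤ Subgroup.centralizer ({z} : Set G)
  normal : ∀ h ∈ Subgroup.centralizer ({z} : Set G), ∀ e ∈ E, h * e * h⁻¹ ∈ E
  sq : ∀ e ∈ E, e * e = 1 ∨ e * e = z
  comm : ∀ a ∈ E, ∀ b ∈ E, a * b = b * a ∨ a * b = b * a * z
  central : ∀ w : G, (∀ e ∈ E, w * e = e * w) → w = 1 ∨ w = z

/-- The hypotheses of the statements give the facts. -/
theorem core_of [Finite G] {z : G} {E : Subgroup G} (hz : orderOf z = 2)
    (hE : E = (pCore 2 ↥(Subgroup.centralizer ({z} : Set G))).map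
      (Subgroup.centralizer ({z} : Set G)).subtype)
    (hext : IsExtraspecial 2 ↥E) (hcent : Subgroup.centralizer (E : Set G) ≤ E) : Core z E := by
  classical
  have hle : E ≤ Subgroup.centralizer ({z} : Set G) := hE ▸ Subgroup.map_subtype_le _
  have hcz : ∀ e ∈ E, z * e = e * z := fun e he =>
    (Subgroup.mem_centralizer_singleton_iff.mp (hle he)).symm
  have hzE : z ∈ E := hcent (Subgroup.mem_centralizer_iff.mpr fun e he => (hcz e he).symm)
  have hz1 : z ≠ 1 := fun h => by simp [h] at hz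
  have hzc : (⟨z, hzE⟩ : E) ∈ Subgroup.center E :=
    Subgroup.mem_center_iff.mpr fun e => Subtype.ext (hcz e e.2).symm
  have hmem : ∀ c : E, c ∈ Subgroup.center E → (c : G) = 1 ∨ (c : G) = z := fun c hc => by
    by_contra hne
    push Not at hne
    obtain ⟨u, v, huv, hall⟩ := Nat.card_eq_two_iff.mp hext.2
    have h1 := Set.eq_univ_iff_forall.mp hall (1 : Subgroup.center E)
    have h2 := Set.eq_univ_iff_forall.mp hall (⟨⟨z, hzE⟩, hzc⟩ : Subgroup.center E)
    have h3 := Set.eq_univ_iff_forall.mp hall (⟨c, hc⟩ : Subgroup.center E)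
    simp only [Set.mem_insert_iff, Set.mem_singleton_iff] at h1 h2 h3
    have hne1 : (⟨⟨z, hzE⟩, hzc⟩ : Subgroup.center E) ≠ 1 := fun h =>
      hz1 (congrArg (fun q : Subgroup.center E => ((q : E) : G)) h)
    have hne2 : (⟨c, hc⟩ : Subgroup.center E) ≠ 1 := fun h =>
      hne.1 (congrArg (fun q : Subgroup.center E => ((q : E) : G)) h)
    have hne3 : (⟨c, hc⟩ : Subgroup.center E) ≠ ⟨⟨z, hzE⟩, hzc⟩ := fun h =>
      hne.2 (congrArg (fun q : Subgroup.center E => ((q : E) : G)) h)
    rcases h1 with h1 | h1 <;> rcases h2 with h2 | h2 <;> rcases h3 with h3 | h3 <;>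
      first
        | exact hne1 (h2.trans h1.symm)
        | exact hne2 (h3.trans h1.symm)
        | exact hne3 (h3.trans h2.symm)
  have hz2 : z * z = 1 := by
    have := pow_orderOf_eq_one z
    rwa [hz, pow_two] at this
  refine ⟨hz2, hz1, hzE, hle, fun h hh e he => ?_, fun e he => ?_,
    fun a ha b hb => ?_, fun w hw => ?_⟩
  · rw [hE] at he ⊢
    obtain ⟨q, hq, rfl⟩ := he
    have hn : (pCore 2 ↥(Subgroup.centralizer ({z} : Set G))).Normal :=
      Subgroup.sSup_normal _ fun N hN => hN.1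
    exact ⟨⟨h, hh⟩ * q * ⟨h, hh⟩⁻¹, hn.conj_mem q hq _, rfl⟩
  · have : Fact (Nat.Prime 2) := ⟨Nat.prime_two⟩
    have h := hext.1.2.1 ▸ OddOmega.pow_mem_frattini hext.1.1 (⟨e, he⟩ : E)
    simpa [pow_two] using hmem _ h
  · have hc : ⁅(⟨b, hb⟩ : E)⁻¹, (⟨a, ha⟩ : E)⁻¹⁆ ∈ Subgroup.center E :=
      hext.1.2.2 ▸ Subgroup.commutator_mem_commutator (Subgroup.mem_top _) (Subgroup.mem_top _)
    have e : b⁻¹ * a⁻¹ * b * a = 1 ∨ b⁻¹ * a⁻¹ * b * a = z := by
      simpa [commutatorElement_def] using hmem _ hc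
    rcases e with e | e
    · left
      calc a * b = a * b * (b⁻¹ * a⁻¹ * b * a) := by rw [e, mul_one]
        _ = b * a := by group
    · right
      have hzinv : z⁻¹ = z := inv_eq_of_mul_eq_one_right hz2
      calc a * b = b * a * (b⁻¹ * a⁻¹ * b * a)⁻¹ := by group
        _ = b * a * z := by rw [e, hzinv]
  · have hwE : w ∈ E := hcent (Subgroup.mem_centralizer_iff.mpr fun e he => (hw e he).symm)
    exact hmem ⟨w, hwE⟩ (Subgroup.mem_center_iff.mpr fun e => Subtype.ext (hw e e.2).symm)

namespace Core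

variable {z : G} {E : Subgroup G} (hC : Core z E)
include hC

theorem z_inv : z⁻¹ = z := inv_eq_of_mul_eq_one_right hC.z_sq

theorem z_comm {e : G} (he : e ∈ E) : z * e = e * z :=
  (Subgroup.mem_centralizer_singleton_iff.mp (hC.le he)).symm

theorem comm_z_of_ne {a b : G} (ha : a ∈ E) (hb : b ∈ E) (h : a * b ≠ b * a) :
    a * b = b * a * z := (hC.comm a ha b hb).resolve_left h

/-- An element of the four-element centre of a maximal abelian configuration. -/
theorem mem_of_comm {w : G} (hwE : w ∈ E) (P : Set G) (y : G)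
    (hgen : ∀ e ∈ E, e ∈ P ∨ y⁻¹ * e ∈ P) (hP : ∀ a ∈ P, w * a = a * w) (hy : w * y = y * w) :
    w = 1 ∨ w = z := by
  refine hC.central w fun e he => ?_
  rcases hgen e he with h | h
  · exact hP e h
  · have h1 := hP _ h
    calc w * e = w * y * (y⁻¹ * e) := by group
      _ = y * (w * (y⁻¹ * e)) := by rw [hy, mul_assoc]
      _ = y * ((y⁻¹ * e) * w) := by rw [h1]
      _ = e * w := by group

/-- An abelian set with two classes of commutation against a single element is small. -/
theorem card_le_eight [Finite G] (P : Set G) (y : G) (hPE : ∀ a ∈ P, a ∈ E) (hyE : y ∈ E)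
    (hgen : ∀ e ∈ E, e ∈ P ∨ y⁻¹ * e ∈ P) (hmul : ∀ a ∈ P, ∀ b ∈ P, a⁻¹ * b ∈ P)
    (hab : ∀ a ∈ P, ∀ b ∈ P, a * b = b * a) : Nat.card E ≤ 8 := by
  classical
  have hkey : ∀ a ∈ P, a * y = y * a → a = 1 ∨ a = z := fun a ha h =>
    hC.mem_of_comm (hPE a ha) P y hgen (hab a ha) h
  have hbound : ∃ u : G, P ⊆ ({1, z, u, u * z} : Set G) := by
    by_cases hex : ∃ u ∈ P, u * y ≠ y * u
    · obtain ⟨u, hu, hne⟩ := hex
      refine ⟨u, fun a ha => ?_⟩
      by_cases h : a * y = y * a
      · rcases hkey a ha h with e | e <;> simp [e]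
      · have e1 := hC.comm_z_of_ne (hPE a ha) hyE h
        have e2 := hC.comm_z_of_ne (hPE u hu) hyE hne
        have e2' : u⁻¹ * y = y * z * u⁻¹ := by
          calc u⁻¹ * y = u⁻¹ * (y * u * z) * (u * z)⁻¹ * z⁻¹ * z := by group
            _ = u⁻¹ * (u * y) * (z⁻¹ * u⁻¹) := by rw [← e2, mul_inv_rev]; group
            _ = y * z * u⁻¹ := by rw [hC.z_inv]; group
        have : u⁻¹ * a * y = y * (u⁻¹ * a) := by
          calc u⁻¹ * a * y = u⁻¹ * (y * a * z) := by rw [mul_assoc, e1]
            _ = (u⁻¹ * y) * (a * z) := by group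
            _ = y * z * u⁻¹ * (z * a) := by rw [e2', hC.z_comm (hPE a ha)]
            _ = y * (z * (u⁻¹ * z) * a) := by group
            _ = y * (z * (z * u⁻¹) * a) := by rw [hC.z_comm (E.inv_mem (hPE u hu))]
            _ = y * (u⁻¹ * a) := by rw [← mul_assoc z z, hC.z_sq, one_mul]
        rcases hkey _ (hmul u hu a ha) this with e | e
        · exact .inr (.inr (.inl (inv_mul_eq_one.mp e).symm))
        · exact .inr (.inr (.inr (by rw [← e]; simp)))
    · push Not at hex
      exact ⟨1, fun a ha => by rcases hkey a ha (hex a ha) with e | e <;> simp [e]⟩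
  obtain ⟨u, hu⟩ := hbound
  set T : Finset G := {1, z, u, u * z}
  have hT : T.card ≤ 4 := Finset.card_le_four
  have hsub : (E : Set G) ⊆ ↑(T ∪ T.image (y * ·)) := fun e he => by
    rw [Finset.coe_union, Finset.coe_image]
    rcases hgen e he with h | h
    · exact .inl (by simpa [T] using hu h)
    · exact .inr ⟨y⁻¹ * e, by simpa [T] using hu h, by group⟩
  have h1 := Set.ncard_le_ncard hsub (Finset.finite_toSet _)
  rw [Set.ncard_coe_finset] at h1
  have h2 : (E : Set G).ncard = Nat.card E := (Nat.card_coe_set_eq _).symm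
  have h3 : (T ∪ T.image (y * ·)).card ≤ T.card + (T.image (y * ·)).card := Finset.card_union_le _ _
  have h4 : (T.image (y * ·)).card ≤ T.card := Finset.card_image_le
  omega

/-- The commutation class against `x` of a product. -/
theorem comm_mul_of_not {x a b : G} (hxE : x ∈ E) (ha : a ∈ E) (hb : b ∈ E) (h1 : a * x ≠ x * a)
    (h2 : b * x ≠ x * b) : a⁻¹ * b * x = x * (a⁻¹ * b) := by
  have e1 := hC.comm_z_of_ne ha hxE h1
  have e2 := hC.comm_z_of_ne hb hxE h2
  have e1' : x * a = a * x * z := by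
    rw [e1, mul_assoc, hC.z_sq, mul_one]
  calc a⁻¹ * b * x = a⁻¹ * (x * b * z) := by rw [mul_assoc, e2]
    _ = a⁻¹ * (x * a) * (a⁻¹ * b) * z := by group
    _ = x * z * (a⁻¹ * b) * z := by rw [e1']; group
    _ = x * (z * (a⁻¹ * b)) * z := by group
    _ = x * ((a⁻¹ * b) * z) * z := by rw [hC.z_comm (E.mul_mem (E.inv_mem ha) hb)]
    _ = x * (a⁻¹ * b) * (z * z) := by group
    _ = x * (a⁻¹ * b) := by rw [hC.z_sq, mul_one]

theorem exists_not_comm {x : G} (hx : x ≠ 1) (hxz : x ≠ z) :
    ∃ y ∈ E, y * x ≠ x * y := by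
  by_contra h
  push Not at h
  rcases hC.central x (fun e he => (h e he).symm) with e | e
  · exact hx e
  · exact hxz e

/-- Outside a subgroup of index two of a large `E` there is an involution. -/
theorem exists_involution_outside [Finite G] (hcard : 32 ≤ Nat.card E) (K : Subgroup G)
    (hK : ∀ a ∈ E, ∀ b ∈ E, a ∉ K → b ∉ K → a⁻¹ * b ∈ K)
    {t : G} (ht : t ∈ E) (htK : t ∉ K) : ∃ x ∈ E, x ∉ K ∧ x * x = 1 := by
  by_contra hno
  push Not at hno
  have hsq : ∀ a ∈ E, a ∉ K → a * a = z := fun a ha haK =>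
    (hC.sq a ha).resolve_left (hno a ha haK)
  have hinv : ∀ m ∈ E, m ∈ K → t⁻¹ * m * t = m⁻¹ := fun m hm hmK => by
    have h1 := hsq (t * m) (E.mul_mem ht hm) fun h => htK (by
      have := K.mul_mem h (K.inv_mem hmK)
      rwa [mul_inv_cancel_right] at this)
    have h2 := hsq t ht htK
    calc t⁻¹ * m * t = t⁻¹ * t⁻¹ * (t * m * (t * m)) * m⁻¹ := by group
      _ = (t * t)⁻¹ * z * m⁻¹ := by rw [h1]; group
      _ = m⁻¹ := by rw [h2, inv_mul_cancel, one_mul]
  have h8 : Nat.card E ≤ 8 := by
    refine hC.card_le_eight {a | a ∈ E ∧ a ∈ K} t (fun a ha => ha.1) ht (fun e he => ?_)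
      (fun a ha b hb => ⟨E.mul_mem (E.inv_mem ha.1) hb.1, K.mul_mem (K.inv_mem ha.2) hb.2⟩)
      (fun a ha b hb => ?_)
    · by_cases h : e ∈ K
      · exact .inl ⟨he, h⟩
      · exact .inr ⟨E.mul_mem (E.inv_mem ht) he, hK t ht e he htK h⟩
    · have e1 := hinv _ (E.mul_mem ha.1 hb.1) (K.mul_mem ha.2 hb.2)
      have e2 := hinv a ha.1 ha.2
      have e3 := hinv b hb.1 hb.2
      have e4 : t⁻¹ * (a * b) * t = (t⁻¹ * a * t) * (t⁻¹ * b * t) := by group
      rw [e2, e3, e1, ← mul_inv_rev, inv_inj] at e4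
      exact e4
  omega

/-- The centralizer of a non-central involution is not abelian when `E` is large. -/
theorem exists_comm_pair [Finite G] (hcard : 32 ≤ Nat.card E) {x : G} (hxE : x ∈ E) (hx : x ≠ 1)
    (hxz : x ≠ z) :
    ∃ a b : G, a ∈ E ∧ b ∈ E ∧ a * x = x * a ∧ b * x = x * b ∧ a⁻¹ * b⁻¹ * a * b = z := by
  obtain ⟨y, hy, hyx⟩ := hC.exists_not_comm hx hxz
  by_contra hno
  push Not at hno
  have hcomm : ∀ a b : G, a ∈ E → b ∈ E → a * x = x * a → b * x = x * b → a * b = b * a := by
    intro a b ha hb h1 h2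
    by_contra hne
    refine hno a b ha hb h1 h2 ?_
    have e := hC.comm_z_of_ne ha hb hne
    calc a⁻¹ * b⁻¹ * a * b = a⁻¹ * b⁻¹ * (b * a * z) := by rw [← e]; group
      _ = z := by group
  have h8 : Nat.card E ≤ 8 := by
    refine hC.card_le_eight {a | a ∈ E ∧ Commute a x} y (fun a ha => ha.1) hy (fun e he => ?_)
      (fun a ha b hb => ⟨E.mul_mem (E.inv_mem ha.1) hb.1,
        ((show Commute a x from ha.2).inv_left).mul_left hb.2⟩)
      (fun a ha b hb => hcomm a b ha.1 hb.1 ha.2 hb.2)
    by_cases h : e * x = x * e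
    · exact .inl ⟨he, h⟩
    · exact .inr ⟨E.mul_mem (E.inv_mem hy) he, hC.comm_mul_of_not hxE hy he hyx h⟩
  omega

/-- A conjugate of `z` centralizing the centralizer in `E` of an involution `x`. -/
theorem eq_of_centralizing {x : G} (hxE : x ∈ E) (hx : x ≠ 1) (hxz : x ≠ z) (hxx : x * x = 1)
    {w : G} (hw : w ≠ 1) (hwP : ∀ a ∈ E, a * x = x * a → w * a = a * w) :
    w = z ∨ w = x ∨ w = x * z := by
  obtain ⟨y, hy, hyx⟩ := hC.exists_not_comm hx hxz
  have hwH : w ∈ Subgroup.centralizer ({z} : Set G) :=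
    Subgroup.mem_centralizer_singleton_iff.mpr (hwP z hC.z_mem (hC.z_comm hxE))
  have hzx : z * x = x * z := hC.z_comm hxE
  set P : Set G := {a | a ∈ E ∧ a * x = x * a} with hP
  have hgen : ∀ e ∈ E, e ∈ P ∨ y⁻¹ * e ∈ P := fun e he => by
    by_cases h : e * x = x * e
    · exact .inl ⟨he, h⟩
    · exact .inr ⟨E.mul_mem (E.inv_mem hy) he, hC.comm_mul_of_not hxE hy he hyx h⟩
  set φy := w * y * w⁻¹ with hφy
  set c := y⁻¹ * φy with hc
  have hφyE : φy ∈ E := hC.normal w hwH y hy
  have hcE : c ∈ E := E.mul_mem (E.inv_mem hy) hφyE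
  have hcP : ∀ a ∈ P, c * a = a * c := fun a ha => by
    have hb : y * a * y⁻¹ ∈ P := by
      refine ⟨E.mul_mem (E.mul_mem hy ha.1) (E.inv_mem hy), ?_⟩
      rcases hC.comm y hy a ha.1 with e | e
      · rw [e, mul_inv_cancel_right]; exact ha.2
      · rw [e, show a * y * z * y⁻¹ = a * (y * z) * y⁻¹ by group, ← hC.z_comm hy,
          show a * (z * y) * y⁻¹ = a * z by group, mul_assoc, hzx, ← mul_assoc, ha.2, mul_assoc]
    have e1 : φy * a * φy⁻¹ = y * a * y⁻¹ := by
      calc φy * a * φy⁻¹ = w * y * (w⁻¹ * (a * w)) * y⁻¹ * w⁻¹ := by rw [hφy]; group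
        _ = w * (y * a * y⁻¹) * w⁻¹ := by
          rw [← hwP a ha.1 ha.2]; group
        _ = y * a * y⁻¹ := by rw [hwP _ hb.1 hb.2, mul_inv_cancel_right]
    calc c * a = y⁻¹ * (φy * a * φy⁻¹) * φy := by rw [hc]; group
      _ = a * c := by rw [e1, hc]; group
  have hcx : c * x = x * c := hcP x ⟨hxE, rfl⟩
  have hc1z : c = 1 ∨ c = z := by
    by_contra hne
    have hcy : c * y ≠ y * c := fun h => hne (hC.mem_of_comm hcE P y hgen hcP h)
    have e1 := hC.comm_z_of_ne hcE hy hcy
    have hxy : x * y = y * x * z := hC.comm_z_of_ne hxE hy fun h => hyx h.symm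
    have hcxy : c * x * y = y * (c * x) := by
      calc c * x * y = c * (y * x * z) := by rw [mul_assoc, hxy]
        _ = c * y * (x * z) := by group
        _ = y * c * (z * (x * z)) := by rw [e1]; group
        _ = y * c * (x * (z * z)) := by rw [← mul_assoc z x z, hzx, mul_assoc x z z]
        _ = y * (c * x) := by rw [hC.z_sq, mul_one, mul_assoc]
    have hcx1 := hC.mem_of_comm (E.mul_mem hcE hxE) P y hgen (fun a ha => by
      rw [mul_assoc, ← ha.2, ← mul_assoc, hcP a ha, mul_assoc]) hcxy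
    -- the square of the image of `y`
    have hy2 : φy * φy = y * y := by
      have : φy * φy = w * (y * y) * w⁻¹ := by rw [hφy]; group
      rw [this]
      rcases hC.sq y hy with e | e
      · rw [e, mul_one, mul_inv_cancel]
      · rw [e, Subgroup.mem_centralizer_singleton_iff.mp hwH, mul_inv_cancel_right]
    have hcc : c * c = 1 := by
      rcases hcx1 with e | e
      · rw [eq_inv_of_mul_eq_one_left e, ← mul_inv_rev, hxx, inv_one]
      · have : c = z * x := by rw [← e, mul_assoc, hxx, mul_one]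
        rw [this]
        calc z * x * (z * x) = z * (x * z) * x := by group
          _ = z * (z * x) * x := by rw [hzx]
          _ = (z * z) * (x * x) := by group
          _ = 1 := by rw [hC.z_sq, hxx, one_mul]
    have : φy * φy = y * y * z := by
      have : φy = y * c := by rw [hc]; group
      rw [this]
      calc y * c * (y * c) = y * (c * y) * c := by group
        _ = y * (y * c * z) * c := by rw [e1]
        _ = y * y * (c * (z * c)) := by group
        _ = y * y * (c * c * z) := by rw [hC.z_comm hcE, ← mul_assoc c c z]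
        _ = y * y * z := by rw [hcc, one_mul]
    rw [hy2] at this
    exact hC.z_ne (mul_eq_left.mp this.symm)
  rcases hc1z with e | e
  · -- `w` centralizes `E`
    have hwy : w * y = y * w := by
      have : φy = y := by rw [← mul_one y, ← e, hc]; group
      calc w * y = φy * w := by rw [hφy]; group
        _ = y * w := by rw [this]
    have : w = 1 ∨ w = z := hC.central w fun e' he' => by
      rcases hgen e' he' with h | h
      · exact hwP e' h.1 h.2
      · calc w * e' = w * y * (y⁻¹ * e') := by group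
          _ = y * (w * (y⁻¹ * e')) := by rw [hwy, mul_assoc]
          _ = y * ((y⁻¹ * e') * w) := by rw [hwP _ h.1 h.2]
          _ = e' * w := by group
    exact .inl (this.resolve_left hw)
  · -- `w * x` centralizes `E`
    have hwy : w * y = y * z * w := by
      have : φy = y * z := by rw [← e, hc]; group
      calc w * y = φy * w := by rw [hφy]; group
        _ = y * z * w := by rw [this]
    have hxy : x * y = y * x * z := hC.comm_z_of_ne hxE hy fun h => hyx h.symm
    have hwz : w * z = z * w := Subgroup.mem_centralizer_singleton_iff.mp hwH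
    have hwxy : w * x * y = y * (w * x) := by
      calc w * x * y = w * (y * x * z) := by rw [mul_assoc, hxy]
        _ = (w * y) * (x * z) := by group
        _ = y * (z * w) * (z * x) := by rw [hwy, hzx]; group
        _ = y * (w * z) * (z * x) := by rw [hwz]
        _ = y * (w * ((z * z) * x)) := by group
        _ = y * (w * x) := by rw [hC.z_sq, one_mul]
    have hmem : w * x = 1 ∨ w * x = z := hC.central (w * x) fun e' he' => by
      have hP' : ∀ a ∈ P, w * x * a = a * (w * x) := fun a ha => by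
        rw [mul_assoc, ← ha.2, ← mul_assoc, hwP a ha.1 ha.2, mul_assoc]
      rcases hgen e' he' with h | h
      · exact hP' e' h
      · calc w * x * e' = w * x * y * (y⁻¹ * e') := by group
          _ = y * (w * x * (y⁻¹ * e')) := by rw [hwxy, mul_assoc]
          _ = y * ((y⁻¹ * e') * (w * x)) := by rw [hP' _ h]
          _ = e' * (w * x) := by group
    rcases hmem with h | h
    · exact .inr (.inl ((eq_inv_of_mul_eq_one_left h).trans (inv_eq_of_mul_eq_one_right hxx)))
    · refine .inr (.inr ?_)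
      rw [← hzx, ← h, mul_assoc, hxx, mul_one]

end Core

end CfsgLib.Large
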