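import Cfsg.Agent.Lib.Large.ExtraCore

/-!
# The extraspecial 2-core lies in the index two subgroups of the centralizer

The sign of an involution of the core outside the index two subgroup `K`, acting on the cosets of
`K` in `G`, would be `-1`.
-/

set_option autoImplicit false
set_option linter.unusedSectionVars false

namespace CfsgLib.Large

open Cfsg Equiv

variable {G : Type*} [Group G] [Finite G]

/-- A homomorphism to the units of the integers is trivial when `O²(G) = G`. -/
theorem units_hom_eq_one (hres : pResidual 2 G = ⊤) (f : G →* ℤˣ) (g : G) : f g = 1 := by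
  have hle : pResidual 2 G ≤ f.ker := (Subgroup.closure_le _).mpr fun a ha => by
    have h1 : orderOf (f a) ∣ orderOf a := orderOf_map_dvd f a
    have h2 : orderOf (f a) ∣ 2 := orderOf_dvd_of_pow_eq_one (Int.units_sq _)
    exact orderOf_eq_one_iff.mp (Nat.eq_one_of_dvd_coprimes ha h1 h2)
  exact hle (hres ▸ Subgroup.mem_top g)

/-- An involution fixes a number of cosets congruent to the index modulo four. -/
theorem four_dvd_moved (hres : pResidual 2 G = ⊤) (K : Subgroup G) {x : G} (hx : x * x = 1) :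
    4 ∣ Nat.card (G ⧸ K) - Nat.card {q : G ⧸ K // x • q = q} ∨
      Nat.card (G ⧸ K) = Nat.card {q : G ⧸ K // x • q = q} := by
  classical
  haveI : Fintype (G ⧸ K) := Fintype.ofFinite _
  set σ : Perm (G ⧸ K) := MulAction.toPermHom G (G ⧸ K) x with hσ
  have hσ2 : σ ^ 2 = 1 := by rw [hσ, ← map_pow, pow_two, hx, map_one]
  have hs : Perm.sign σ = 1 :=
    units_hom_eq_one hres (Perm.sign.comp (MulAction.toPermHom G (G ⧸ K))) x
  rw [Perm.sign_of_pow_two_eq_one hσ2, neg_one_pow_eq_one_iff_even (by decide)] at hs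
  have hfix : Fintype.card (Function.fixedPoints σ) = Nat.card {q : G ⧸ K // x • q = q} := by
    rw [← Nat.card_eq_fintype_card]
    exact Nat.card_congr (Equiv.refl _)
  have hcyc := Perm.cycleType_of_pow_prime_eq_one hσ2
  have hsum : Fintype.card (G ⧸ K) - Fintype.card (Function.fixedPoints σ) =
      σ.cycleType.card * 2 := by
    rw [σ.card_fixedPoints, Nat.sub_sub_self σ.sum_cycleType_le, hcyc]
    simp
  rw [hsum, Nat.mul_div_cancel _ two_pos] at hs
  left
  rw [Nat.card_eq_fintype_card, ← hfix, hsum]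
  obtain ⟨r, hr⟩ := hs
  exact ⟨r, by omega⟩

variable {z : G} {E : Subgroup G}

/-- The cosets of the centralizer fixed by left multiplication. -/
theorem smul_eq_iff {H : Subgroup G} (a g : G) :
    a • (g : G ⧸ H) = g ↔ g⁻¹ * a * g ∈ H := by
  rw [MulAction.Quotient.smul_coe, smul_eq_mul, eq_comm, QuotientGroup.eq, mul_assoc]

/-- Membership in the centralizer of `z` after conjugation. -/
theorem conj_mem_centralizer_iff (a g : G) :
    g⁻¹ * a * g ∈ Subgroup.centralizer ({z} : Set G) ↔
      g * z * g⁻¹ * a = a * (g * z * g⁻¹) := by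
  rw [Subgroup.mem_centralizer_singleton_iff]
  constructor
  · intro h
    calc g * z * g⁻¹ * a = g * (z * (g⁻¹ * a * g)) * g⁻¹ := by group
      _ = a * (g * z * g⁻¹) := by rw [← h]; group
  · intro h
    calc g⁻¹ * a * g * z = g⁻¹ * (a * (g * z * g⁻¹)) * g := by group
      _ = z * (g⁻¹ * a * g) := by rw [← h]; group

/-- The number of cosets of the centralizer is odd. -/
theorem odd_card_quotient (hC : Core z E) (hE2 : IsPGroup 2 E) :
    Nat.card (G ⧸ Subgroup.centralizer ({z} : Set G)) % 2 = 1 := by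
  classical
  set H := Subgroup.centralizer ({z} : Set G) with hH
  have : Fact (Nat.Prime 2) := ⟨Nat.prime_two⟩
  have h := hE2.card_modEq_card_fixedPoints (G ⧸ H)
  have h1 : Nat.card (MulAction.fixedPoints E (G ⧸ H)) = 1 := by
    refine Nat.card_eq_one_iff_unique.mpr ⟨⟨fun a b => Subtype.ext ?_⟩,
      ⟨⟨((1 : G) : G ⧸ H), fun e => (smul_eq_iff (e : G) 1).mpr (by
        simpa using hC.le e.2)⟩⟩⟩
    have hone : ∀ q : MulAction.fixedPoints E (G ⧸ H), (q : G ⧸ H) = ((1 : G) : G ⧸ H) := by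
      rintro ⟨q, hq⟩
      obtain ⟨g, rfl⟩ := QuotientGroup.mk_surjective q
      have hc := hC.central (g * z * g⁻¹) fun e he =>
        (conj_mem_centralizer_iff e g).mp ((smul_eq_iff e g).mp (hq ⟨e, he⟩))
      rcases hc with e | e
      · exact absurd (conj_eq_one_iff.mp e) hC.z_ne
      · refine QuotientGroup.eq.mpr (?_ : g⁻¹ * 1 ∈ H)
        rw [mul_one]
        refine H.inv_mem (Subgroup.mem_centralizer_singleton_iff.mpr ?_)
        calc g * z = g * z * g⁻¹ * g := by group
          _ = z * g := by rw [e]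
    rw [hone a, hone b]
  rw [h1] at h
  exact h

/-- The cosets `gH` with `g⁻¹ x g` in `K` are even in number for an involution `x` of `E` outside
`K`. -/
theorem even_card_good (hC : Core z E) (hE2 : IsPGroup 2 E) (hcard : 32 ≤ Nat.card E)
    (K : Subgroup G) (hKn : ∀ h ∈ Subgroup.centralizer ({z} : Set G), ∀ k ∈ K, h * k * h⁻¹ ∈ K)
    (hcomm : ∀ a ∈ Subgroup.centralizer ({z} : Set G), ∀ b ∈ Subgroup.centralizer ({z} : Set G),
      a⁻¹ * b⁻¹ * a * b ∈ K)
    {x : G} (hxE : x ∈ E) (hxK : x ∉ K) (hxx : x * x = 1) :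
    Nat.card {q : G ⧸ Subgroup.centralizer ({z} : Set G) //
      ∃ g : G, (g : G ⧸ Subgroup.centralizer ({z} : Set G)) = q ∧ g⁻¹ * x * g ∈ K} % 2 = 0 := by
  classical
  have : Fact (Nat.Prime 2) := ⟨Nat.prime_two⟩
  set H := Subgroup.centralizer ({z} : Set G) with hH
  have hx1 : x ≠ 1 := fun h => hxK (h ▸ K.one_mem)
  have hzK : z ∈ K := by
    obtain ⟨a, b, ha, hb, -, -, hab⟩ := hC.exists_comm_pair hcard hxE hx1 (fun h => by
      subst h
      exact hxK (by
        obtain ⟨a, b, ha, hb, -, -, hab⟩ : ∃ a b : G, a ∈ E ∧ b ∈ E ∧ True ∧ True ∧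
            a⁻¹ * b⁻¹ * a * b = x := by
          obtain ⟨t, ht, ht1, htz⟩ : ∃ t ∈ E, t ≠ 1 ∧ t ≠ x := by
            by_contra hno
            push Not at hno
            have hsub : (E : Set G) ⊆ ↑({1, x} : Finset G) := fun e he => by
              by_cases h : e = 1
              · simp [h]
              · simp [hno e he h]
            have h1 := Set.ncard_le_ncard hsub (Finset.finite_toSet _)
            rw [Set.ncard_coe_finset, ← Nat.card_coe_set_eq] at h1
            have h2 : ({1, x} : Finset G).card ≤ 2 := Finset.card_le_two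
            have h3 : Nat.card E ≤ ({1, x} : Finset G).card := h1
            omega
          obtain ⟨y, hy, hyt⟩ := hC.exists_not_comm ht1 htz
          refine ⟨y, t, hy, ht, trivial, trivial, ?_⟩
          rw [show y⁻¹ * t⁻¹ * y * t = y⁻¹ * t⁻¹ * (y * t) by group,
            hC.comm_z_of_ne hy ht hyt]
          group
        rw [← hab]
        exact hcomm a (hC.le ha) b (hC.le hb)))
    rw [← hab]
    exact hcomm a (hC.le ha) b (hC.le hb)
  have hxz : x ≠ z := fun h => hxK (h ▸ hzK)
  obtain ⟨a₀, b₀, ha₀, hb₀, ha₀x, hb₀x, hab₀⟩ := hC.exists_comm_pair hcard hxE hx1 hxz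
  set good : G ⧸ H → Prop := fun q => ∃ g : G, (g : G ⧸ H) = q ∧ g⁻¹ * x * g ∈ K with hgood
  have hwd : ∀ g : G, good (g : G ⧸ H) → g⁻¹ * x * g ∈ K := by
    rintro g ⟨g', hg', hK'⟩
    have h := hKn (g'⁻¹ * g)⁻¹ (H.inv_mem (QuotientGroup.eq.mp hg')) _ hK'
    convert h using 1
    group
  set P : Subgroup G := E ⊓ Subgroup.centralizer ({x} : Set G) with hP
  have hP2 : IsPGroup 2 P := hE2.to_le inf_le_left
  have hstab : ∀ a : P, ∀ q, good q → good ((a : G) • q) := by
    rintro ⟨a, ha⟩ q ⟨g, rfl, hg⟩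
    refine ⟨a * g, rfl, ?_⟩
    have hax : a * x = x * a := Subgroup.mem_centralizer_singleton_iff.mp (Subgroup.mem_inf.mp ha).2
    convert hg using 1
    calc (a * g)⁻¹ * x * (a * g) = g⁻¹ * a⁻¹ * (x * a) * g := by group
      _ = g⁻¹ * x * g := by rw [← hax]; group
  letI : MulAction P {q : G ⧸ H // good q} :=
    { smul := fun a q => ⟨(a : G) • (q : G ⧸ H), hstab a q q.2⟩
      one_smul := fun q => Subtype.ext (one_smul G (q : G ⧸ H))
      mul_smul := fun a b q => Subtype.ext (mul_smul (a : G) (b : G) (q : G ⧸ H)) }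
  have hmod := hP2.card_modEq_card_fixedPoints {q : G ⧸ H // good q}
  -- the fixed cosets
  have hfixed : ∀ (g : G) (hg : good (g : G ⧸ H)),
      (⟨_, hg⟩ : {q : G ⧸ H // good q}) ∈ MulAction.fixedPoints P {q : G ⧸ H // good q} ↔
        g * z * g⁻¹ = x ∨ g * z * g⁻¹ = x * z := by
    intro g hg
    constructor
    · intro hf
      have hw := hC.eq_of_centralizing hxE hx1 hxz hxx (w := g * z * g⁻¹)
        (fun h => hC.z_ne (conj_eq_one_iff.mp h)) fun a ha hax => by
          have := congrArg Subtype.val (hf ⟨a, Subgroup.mem_inf.mpr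
            ⟨ha, Subgroup.mem_centralizer_singleton_iff.mpr hax⟩⟩)
          exact (conj_mem_centralizer_iff a g).mp ((smul_eq_iff a g).mp this)
      refine hw.resolve_left fun e => hxK ?_
      have hgH : g ∈ H := Subgroup.mem_centralizer_singleton_iff.mpr (by
        calc g * z = g * z * g⁻¹ * g := by group
          _ = z * g := by rw [e])
      have := hKn g hgH _ (hwd g hg)
      convert this using 1
      group
    · intro hw a
      have ha := Subgroup.mem_inf.mp a.2
      have hax : (a : G) * x = x * a := Subgroup.mem_centralizer_singleton_iff.mp ha.2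
      have haz : z * (a : G) = a * z := hC.z_comm ha.1
      refine Subtype.ext ((smul_eq_iff (a : G) g).mpr ((conj_mem_centralizer_iff (a : G) g).mpr ?_))
      rcases hw with e | e <;> rw [e]
      · exact hax.symm
      · rw [mul_assoc, haz, ← mul_assoc, ← hax, mul_assoc]
  have hgoodw : ∀ g : G, g * z * g⁻¹ = x ∨ g * z * g⁻¹ = x * z → good (g : G ⧸ H) := by
    intro g hw
    refine ⟨g, rfl, ?_⟩
    rcases hw with e | e
    · have : g⁻¹ * x * g = z := by rw [← e]; group
      rwa [this]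
    · have hgzg : g⁻¹ * z * g ∈ K := by
        have hmem : ∀ c : G, c ∈ E → c * x = x * c → g⁻¹ * c * g ∈ H := fun c hc hcx => by
          refine (conj_mem_centralizer_iff c g).mpr ?_
          rw [e, mul_assoc, hC.z_comm hc, ← mul_assoc, ← hcx, mul_assoc]
        have := hcomm _ (hmem a₀ ha₀ ha₀x) _ (hmem b₀ hb₀ hb₀x)
        convert this using 1
        rw [← hab₀]
        group
      have : g⁻¹ * x * g = z * (g⁻¹ * z * g) := by
        have hxeq : x = g * z * g⁻¹ * z := by rw [e, mul_assoc, hC.z_sq, mul_one]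
        rw [hxeq]
        group
      rw [this]
      exact K.mul_mem hzK hgzg
  have hinj : ∀ g g' : G, g * z * g⁻¹ = g' * z * g'⁻¹ → (g : G ⧸ H) = g' := fun g g' h => by
    refine QuotientGroup.eq.mpr (Subgroup.mem_centralizer_singleton_iff.mpr ?_)
    calc g⁻¹ * g' * z = g⁻¹ * (g' * z * g'⁻¹) * g' := by group
      _ = z * (g⁻¹ * g') := by rw [← h]; group
  obtain ⟨y, hy, hyx⟩ := hC.exists_not_comm hx1 hxz
  have hswap : y * x * y⁻¹ = x * z := by
    have : y * x = x * y * z := hC.comm_z_of_ne hy hxE hyx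
    rw [this, mul_assoc x y z, ← hC.z_comm hy, ← mul_assoc, mul_inv_cancel_right]
  have hfix_even : Nat.card (MulAction.fixedPoints P {q : G ⧸ H // good q}) % 2 = 0 := by
    by_cases hex : ∃ g : G, g * z * g⁻¹ = x ∨ g * z * g⁻¹ = x * z
    · obtain ⟨g₀, hg₀⟩ := hex
      have hboth : ∃ g₁ g₂ : G, g₁ * z * g₁⁻¹ = x ∧ g₂ * z * g₂⁻¹ = x * z := by
        rcases hg₀ with e | e
        · exact ⟨g₀, y * g₀, e, by
            rw [show y * g₀ * z * (y * g₀)⁻¹ = y * (g₀ * z * g₀⁻¹) * y⁻¹ by group, e, hswap]⟩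
        · refine ⟨y⁻¹ * g₀, g₀, ?_, e⟩
          rw [show y⁻¹ * g₀ * z * (y⁻¹ * g₀)⁻¹ = y⁻¹ * (g₀ * z * g₀⁻¹) * y by group, e, ← hswap]
          group
      obtain ⟨g₁, g₂, h₁, h₂⟩ := hboth
      have hcard2 : Nat.card (MulAction.fixedPoints P {q : G ⧸ H // good q}) = 2 := by
        rw [Nat.card_eq_two_iff]
        refine ⟨⟨⟨_, hgoodw g₁ (.inl h₁)⟩, (hfixed g₁ _).mpr (.inl h₁)⟩,
          ⟨⟨_, hgoodw g₂ (.inr h₂)⟩, (hfixed g₂ _).mpr (.inr h₂)⟩, ?_, ?_⟩
        · intro h
          have h' : (g₁ : G ⧸ H) = g₂ := congrArg (fun q => (q.1.1 : G ⧸ H)) h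
          have hh := Subgroup.mem_centralizer_singleton_iff.mp (QuotientGroup.eq.mp h')
          refine hC.z_ne ((mul_eq_left (a := x)).mp ?_)
          calc x * z = g₁ * (g₁⁻¹ * g₂ * z) * g₂⁻¹ := by rw [← h₂]; group
            _ = x := by rw [hh, ← h₁]; group
        · refine Set.eq_univ_iff_forall.mpr ?_
          rintro ⟨⟨q, hq⟩, hf⟩
          obtain ⟨g, rfl⟩ := QuotientGroup.mk_surjective q
          rcases (hfixed g hq).mp hf with e | e
          · exact .inl (Subtype.ext (Subtype.ext (hinj g g₁ (e.trans h₁.symm))))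
          · exact .inr (Subtype.ext (Subtype.ext (hinj g g₂ (e.trans h₂.symm))))
      rw [hcard2]
    · have hempty : IsEmpty (MulAction.fixedPoints P {q : G ⧸ H // good q}) := ⟨by
        rintro ⟨⟨q, hq⟩, hf⟩
        obtain ⟨g, rfl⟩ := QuotientGroup.mk_surjective q
        exact hex ⟨g, (hfixed g hq).mp hf⟩⟩
      rw [Nat.card_of_isEmpty]
  exact (show Nat.card {q : G ⧸ H // good q} % 2 = _ % 2 from hmod).trans hfix_even

/-- The core lies in every normal subgroup of index two of the centralizer. -/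
theorem le_of_index_two (hres : pResidual 2 G = ⊤) (hC : Core z E) (hE2 : IsPGroup 2 E)
    (hcard : 32 ≤ Nat.card E) (K : Subgroup G) (hKH : K ≤ Subgroup.centralizer ({z} : Set G))
    (hKn : ∀ h ∈ Subgroup.centralizer ({z} : Set G), ∀ k ∈ K, h * k * h⁻¹ ∈ K)
    (hKi : K.relIndex (Subgroup.centralizer ({z} : Set G)) = 2) : E ≤ K := by
  classical
  set H := Subgroup.centralizer ({z} : Set G) with hH
  have hprod : ∀ a ∈ H, ∀ b ∈ H, (a * b ∈ K ↔ (a ∈ K ↔ b ∈ K)) := fun a ha b hb => by
    have := Subgroup.mul_mem_iff_of_index_two (H := K.subgroupOf H) hKi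
      (a := ⟨a, ha⟩) (b := ⟨b, hb⟩)
    simpa [Subgroup.mem_subgroupOf] using this
  have hcomm : ∀ a ∈ H, ∀ b ∈ H, a⁻¹ * b⁻¹ * a * b ∈ K := fun a ha b hb => by
    have h1 := hprod _ (H.mul_mem (H.mul_mem (H.inv_mem ha) (H.inv_mem hb)) ha) b hb
    have h2 := hprod _ (H.mul_mem (H.inv_mem ha) (H.inv_mem hb)) a ha
    have h3 := hprod _ (H.inv_mem ha) _ (H.inv_mem hb)
    rw [h1, h2, h3, inv_mem_iff, inv_mem_iff]
    by_cases a ∈ K <;> by_cases b ∈ K <;> simp_all
  intro t ht
  by_contra htK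
  obtain ⟨x, hxE, hxK, hxx⟩ := hC.exists_involution_outside hcard K (fun a ha b hb h1 h2 =>
    (hprod _ (H.inv_mem (hC.le ha)) b (hC.le hb)).mpr (by simp [h1, h2])) ht htK
  set good : Set (G ⧸ H) := {q | ∃ g : G, (g : G ⧸ H) = q ∧ g⁻¹ * x * g ∈ K} with hgood
  have hgood2 : Nat.card good % 2 = 0 := even_card_good hC hE2 hcard K hKn hcomm hxE hxK hxx
  have hodd : Nat.card (G ⧸ H) % 2 = 1 := odd_card_quotient hC hE2
  have hindex : Nat.card (G ⧸ K) = 2 * Nat.card (G ⧸ H) := by
    have := Subgroup.relIndex_mul_index hKH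
    rw [hKi, Subgroup.index_eq_card, Subgroup.index_eq_card] at this
    exact this.symm
  -- the fixed cosets of `K`
  have hpre : (QuotientGroup.mk ⁻¹' good : Set G) =
      QuotientGroup.mk ⁻¹' {q : G ⧸ K | x • q = q} := by
    ext g
    simp only [Set.mem_preimage, hgood, Set.mem_ofPred_eq, smul_eq_iff]
    constructor
    · rintro ⟨g', hg', hK'⟩
      have h := hKn (g'⁻¹ * g)⁻¹ (H.inv_mem (QuotientGroup.eq.mp hg')) _ hK'
      convert h using 1
      group
    · exact fun h => ⟨g, rfl, h⟩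
  have hcards : Nat.card H * Nat.card good = Nat.card K * Nat.card {q : G ⧸ K // x • q = q} := by
    have e1 := Nat.card_congr (QuotientGroup.preimageMkEquivSubgroupProdSet H good)
    have e2 := Nat.card_congr
      (QuotientGroup.preimageMkEquivSubgroupProdSet K {q : G ⧸ K | x • q = q})
    rw [Nat.card_prod] at e1 e2
    rw [← e1, hpre, e2]
    rfl
  have hHK : Nat.card H = 2 * Nat.card K := by
    have := Subgroup.card_mul_index (K.subgroupOf H)
    rw [show (K.subgroupOf H).index = 2 from hKi,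
      Nat.card_congr (Subgroup.subgroupOfEquivOfLe hKH).toEquiv] at this
    omega
  have hfix : Nat.card {q : G ⧸ K // x • q = q} = 2 * Nat.card good := by
    have hpos : 0 < Nat.card K := Nat.card_pos
    rw [hHK, mul_assoc, mul_left_comm] at hcards
    exact (Nat.eq_of_mul_eq_mul_left hpos hcards).symm
  have hgle : Nat.card good ≤ Nat.card (G ⧸ H) :=
    Nat.card_le_card_of_injective _ Subtype.val_injective
  rcases four_dvd_moved hres K hxx with h | h <;> omega

end CfsgLib.Large
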