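import Cfsg.Agent.Lib.Large.Cocycle
import Cfsg.Agent.Lib.Large.IndexTwo

/-!
# Orbits of 2-subgroups of the centralizer on the other cosets

The transfer to a group of exponent two is trivial over every other orbit, except possibly for the
orbits that belong to conjugates of `z` inside the core and for very small cores.
-/

set_option autoImplicit false
set_option linter.unusedSectionVars false

namespace CfsgLib.Large

open Cfsg

variable {G : Type*} [Group G] [Finite G] {z : G} {E : Subgroup G}

namespace Core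

variable (hC : Core z E)
include hC

/-- Commutation against `a` flips on multiplying by a non-commuting element. -/
theorem comm_mul_iff {u x a : G} (hu : u ∈ E) (hx : x ∈ E) (ha : a ∈ E) (hne : u * a ≠ a * u) :
    (u * x * a = a * (u * x)) ↔ ¬ x * a = a * x := by
  have e1 := hC.comm_z_of_ne hu ha hne
  have hzx := hC.z_comm hx
  constructor
  · intro h hxa
    have h1 : u * x * a = a * (u * x) * z := by
      calc u * x * a = u * a * x := by rw [mul_assoc, hxa, ← mul_assoc]
        _ = a * u * (z * x) := by rw [e1]; group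
        _ = a * (u * x) * z := by rw [hzx]; group
    rw [h] at h1
    exact hC.z_ne (mul_eq_left.mp h1.symm)
  · intro h
    have e2 := hC.comm_z_of_ne hx ha h
    calc u * x * a = u * (a * x * z) := by rw [mul_assoc, e2]
      _ = a * u * (z * x) * z := by rw [← mul_assoc, ← mul_assoc, e1]; group
      _ = a * u * x * (z * z) := by rw [hzx]; group
      _ = a * (u * x) := by rw [hC.z_sq, mul_one, mul_assoc]

/-- The centralizer in `E` of a subgroup containing `z` has the complementary order. -/
theorem card_centralizer_mul (A : Subgroup G) (hA : A ≤ E) (hz : z ∈ A) :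
    Nat.card (E ⊓ Subgroup.centralizer (A : Set G) : Subgroup G) * Nat.card A = 2 * Nat.card E := by
  classical
  haveI : Fintype G := Fintype.ofFinite G
  let sA : Finset G := Finset.univ.filter fun a => a ∈ A
  let sE : Finset G := Finset.univ.filter fun a => a ∈ E
  let ε : G → G → ℤ := fun x a => if x * a = a * x then 1 else -1
  have hcardA : sA.card = Nat.card A := by
    rw [← Nat.card_eq_finsetCard]
    exact Nat.card_congr (Equiv.subtypeEquivRight fun a => by simp [sA])
  have hcardE : sE.card = Nat.card E := by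
    rw [← Nat.card_eq_finsetCard]
    exact Nat.card_congr (Equiv.subtypeEquivRight fun a => by simp [sE])
  -- sums over `E`
  have hcol : ∀ a ∈ sA, ∑ x ∈ sE, ε x a = if a = 1 ∨ a = z then (sE.card : ℤ) else 0 := by
    intro a ha
    simp only [sA, Finset.mem_filter, Finset.mem_univ, true_and] at ha
    split_ifs with h
    · rw [Finset.sum_congr rfl (g := fun _ => (1 : ℤ)) fun x hx => ?_]
      · simp
      · simp only [sE, Finset.mem_filter, Finset.mem_univ, true_and] at hx
        refine if_pos ?_
        rcases h with rfl | rfl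
        · simp
        · exact (hC.z_comm hx).symm
    · push Not at h
      obtain ⟨u, hu, hne⟩ := hC.exists_not_comm h.1 h.2
      have hflip : ∑ x ∈ sE, ε x a = ∑ x ∈ sE, -ε x a := by
        refine Finset.sum_bij' (fun x _ => u * x) (fun x _ => u⁻¹ * x) (fun x hx => ?_)
          (fun x hx => ?_) (fun x _ => by simp) (fun x _ => by simp) fun x hx => ?_
        · simp only [sE, Finset.mem_filter, Finset.mem_univ, true_and] at hx ⊢
          exact E.mul_mem hu hx
        · simp only [sE, Finset.mem_filter, Finset.mem_univ, true_and] at hx ⊢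
          exact E.mul_mem (E.inv_mem hu) hx
        · simp only [sE, Finset.mem_filter, Finset.mem_univ, true_and] at hx
          simp only [ε]
          have := hC.comm_mul_iff hu hx (hA ha) hne
          by_cases hxa : x * a = a * x
          · rw [if_pos hxa, if_neg fun h' => this.mp h' hxa, neg_neg]
          · rw [if_neg hxa, if_pos (this.mpr hxa)]
      rw [Finset.sum_neg_distrib] at hflip
      omega
  -- sums over `A`
  have hrow : ∀ x ∈ sE, ∑ a ∈ sA, ε x a =
      if x ∈ Subgroup.centralizer (A : Set G) then (sA.card : ℤ) else 0 := by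
    intro x hx
    simp only [sE, Finset.mem_filter, Finset.mem_univ, true_and] at hx
    split_ifs with h
    · rw [Finset.sum_congr rfl (g := fun _ => (1 : ℤ)) fun a ha => ?_]
      · simp
      · simp only [sA, Finset.mem_filter, Finset.mem_univ, true_and] at ha
        exact if_pos (Subgroup.mem_centralizer_iff.mp h a ha).symm
    · obtain ⟨u, hu, hne⟩ : ∃ u ∈ A, u * x ≠ x * u := by
        by_contra h'
        push Not at h'
        exact h (Subgroup.mem_centralizer_iff.mpr fun a ha => h' a ha)
      have hflip : ∑ a ∈ sA, ε x a = ∑ a ∈ sA, -ε x a := by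
        refine Finset.sum_bij' (fun a _ => u * a) (fun a _ => u⁻¹ * a) (fun a ha => ?_)
          (fun a ha => ?_) (fun a _ => by simp) (fun a _ => by simp) fun a ha => ?_
        · simp only [sA, Finset.mem_filter, Finset.mem_univ, true_and] at ha ⊢
          exact A.mul_mem hu ha
        · simp only [sA, Finset.mem_filter, Finset.mem_univ, true_and] at ha ⊢
          exact A.mul_mem (A.inv_mem hu) ha
        · simp only [sA, Finset.mem_filter, Finset.mem_univ, true_and] at ha
          simp only [ε]
          have := hC.comm_mul_iff (hA hu) (hA ha) hx hne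
          by_cases hxa : x * a = a * x
          · rw [if_pos hxa, if_neg fun h' => this.mp h'.symm hxa.symm, neg_neg]
          · rw [if_neg hxa, if_pos (this.mpr fun h' => hxa h'.symm).symm]
      rw [Finset.sum_neg_distrib] at hflip
      omega
  have hswap : ∑ a ∈ sA, ∑ x ∈ sE, ε x a = ∑ x ∈ sE, ∑ a ∈ sA, ε x a := Finset.sum_comm
  rw [Finset.sum_congr rfl hcol, Finset.sum_congr rfl hrow, ← Finset.sum_filter,
    ← Finset.sum_filter, Finset.sum_const, Finset.sum_const, nsmul_eq_mul, nsmul_eq_mul] at hswap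
  have h1 : (sA.filter fun a => a = 1 ∨ a = z) = {1, z} := by
    ext a
    simp only [sA, Finset.mem_filter, Finset.mem_univ, true_and, Finset.mem_insert,
      Finset.mem_singleton]
    constructor
    · exact fun h => h.2
    · rintro (rfl | rfl)
      · exact ⟨A.one_mem, .inl rfl⟩
      · exact ⟨hz, .inr rfl⟩
  have h2 : (sE.filter fun x => x ∈ Subgroup.centralizer (A : Set G)).card =
      Nat.card (E ⊓ Subgroup.centralizer (A : Set G) : Subgroup G) := by
    rw [← Nat.card_eq_finsetCard]
    exact Nat.card_congr (Equiv.subtypeEquivRight fun a => by simp [sE, Subgroup.mem_inf])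
  rw [h1, h2, Finset.card_pair hC.z_ne.symm, hcardA, hcardE] at hswap
  exact_mod_cast hswap.symm

omit hC in
/-- A subgroup whose union with one translate covers `E` has at least half the order. -/
theorem card_le_two_mul (A : Subgroup G) (y : G) (h : ∀ e ∈ E, e ∈ A ∨ y * e ∈ A) :
    Nat.card E ≤ 2 * Nat.card A := by
  classical
  have hsub : (E : Set G) ⊆ (A : Set G) ∪ (fun a => y⁻¹ * a) '' (A : Set G) := fun e he => by
    rcases h e he with h' | h'
    · exact .inl h'
    · exact .inr ⟨y * e, h', by group⟩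
  have h1 := Set.ncard_le_ncard hsub (Set.toFinite _)
  have h2 := Set.ncard_union_le (A : Set G) ((fun a => y⁻¹ * a) '' (A : Set G))
  have h3 := Set.ncard_image_le (f := fun a => y⁻¹ * a) (s := (A : Set G)) (Set.toFinite _)
  have e1 : (E : Set G).ncard = Nat.card E := (Nat.card_coe_set_eq _).symm
  have e2 : (A : Set G).ncard = Nat.card A := (Nat.card_coe_set_eq _).symm
  omega

/-- An involution centralizing half of `E` lies in `E`. -/
theorem mem_of_half (A : Subgroup G) (hA : A ≤ E) (hzA : z ∈ A) {y : G} (hy : y ∈ E) (hyA : y ∉ A)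
    (hgen : ∀ e ∈ E, e ∈ A ∨ y * e ∈ A) {w : G} (hww : w * w = 1)
    (hwA : ∀ a ∈ A, w * a = a * w) :
    w ∈ E ∧ Nat.card (E ⊓ Subgroup.centralizer (A : Set G) : Subgroup G) ≤ 4 := by
  classical
  have hy2 : y * y ∈ A := by
    rcases hC.sq y hy with e | e <;> rw [e]
    · exact A.one_mem
    · exact hzA
  have hgen' : ∀ e ∈ E, e ∈ (A : Set G) ∨ y⁻¹ * e ∈ (A : Set G) := fun e he => by
    rcases hgen e he with h | h
    · exact .inl h
    · refine .inr ?_
      rw [show y⁻¹ * e = (y * y)⁻¹ * (y * e) by group]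
      exact A.mul_mem (A.inv_mem hy2) h
  have hcards := hC.card_centralizer_mul A hA hzA
  have hhalf := card_le_two_mul A y hgen
  have hlt : 2 * Nat.card A ≤ Nat.card E := by
    have h1 := Subgroup.card_mul_index (A.subgroupOf E)
    rw [Nat.card_congr (Subgroup.subgroupOfEquivOfLe hA).toEquiv] at h1
    rcases Nat.lt_or_ge (A.subgroupOf E).index 2 with h | h
    · have h0 : (A.subgroupOf E).index ≠ 0 := Subgroup.index_ne_zero_of_finite
      exact absurd (Subgroup.subgroupOf_eq_top.mp (Subgroup.index_eq_one.mp (by omega)) hy) hyA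
    · nlinarith
  have hA0 : 0 < Nat.card A := Nat.card_pos
  have hfour : Nat.card (E ⊓ Subgroup.centralizer (A : Set G) : Subgroup G) = 4 := by
    have : Nat.card E = 2 * Nat.card A := by omega
    rw [this, ← mul_assoc] at hcards
    exact Nat.eq_of_mul_eq_mul_right hA0 hcards
  obtain ⟨x, hx, hx1, hxz⟩ : ∃ x ∈ (E ⊓ Subgroup.centralizer (A : Set G) : Subgroup G),
      x ≠ 1 ∧ x ≠ z := by
    by_contra hno
    push Not at hno
    have hsub : ((E ⊓ Subgroup.centralizer (A : Set G) : Subgroup G) : Set G) ⊆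
        ↑({1, z} : Finset G) := fun x hx => by
      by_cases h : x = 1
      · simp [h]
      · simp [hno x hx h]
    have h1 := Set.ncard_le_ncard hsub (Finset.finite_toSet _)
    rw [Set.ncard_coe_finset, ← Nat.card_coe_set_eq] at h1
    have h2 : ({1, z} : Finset G).card ≤ 2 := Finset.card_le_two
    have h3 : Nat.card (E ⊓ Subgroup.centralizer (A : Set G) : Subgroup G) ≤ 2 := h1.trans h2
    omega
  obtain ⟨hxE, hxc⟩ := Subgroup.mem_inf.mp hx
  have hxA : ∀ a ∈ A, x * a = a * x := fun a ha => (Subgroup.mem_centralizer_iff.mp hxc a ha).symm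
  refine ⟨?_, hfour.le⟩
  have hxy : x * y ≠ y * x := fun h => by
    rcases hC.mem_of_comm hxE A y hgen' hxA h with e | e
    · exact hx1 e
    · exact hxz e
  have hwH : w ∈ Subgroup.centralizer ({z} : Set G) :=
    Subgroup.mem_centralizer_singleton_iff.mpr (hwA z hzA)
  set φy := w * y * w⁻¹ with hφy
  set c := y⁻¹ * φy with hc
  have hwinv : w⁻¹ = w := inv_eq_of_mul_eq_one_right hww
  have hφyE : φy ∈ E := hC.normal w hwH y hy
  have hcE : c ∈ E := E.mul_mem (E.inv_mem hy) hφyE
  have hcA : ∀ a ∈ A, c * a = a * c := fun a ha => by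
    have hb : y * a * y⁻¹ ∈ A := by
      rcases hC.comm y hy a (hA ha) with e | e
      · rw [e, mul_inv_cancel_right]; exact ha
      · rw [e, show a * y * z * y⁻¹ = a * (y * z) * y⁻¹ by group, ← hC.z_comm hy,
          show a * (z * y) * y⁻¹ = a * z by group]
        exact A.mul_mem ha hzA
    have e1 : φy * a * φy⁻¹ = y * a * y⁻¹ := by
      calc φy * a * φy⁻¹ = w * y * (w⁻¹ * (a * w)) * y⁻¹ * w⁻¹ := by rw [hφy]; group
        _ = w * (y * a * y⁻¹) * w⁻¹ := by
          rw [← hwA a ha]; group
        _ = y * a * y⁻¹ := by rw [hwA _ hb, mul_inv_cancel_right]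
    calc c * a = y⁻¹ * (φy * a * φy⁻¹) * φy := by rw [hc]; group
      _ = a * c := by rw [e1, hc]; group
  have hyc : φy = y * c := by rw [hc]; group
  have hcy : c * y = y * c := by
    rcases hgen' c hcE with h | h
    · -- `c` lies in `A`, so it is fixed and squares to one
      have hcc : c * c = 1 := by
        have e1 : w * φy * w⁻¹ = y := by
          calc w * φy * w⁻¹ = (w * w) * y * (w * w)⁻¹ := by rw [hφy]; group
            _ = y := by rw [hww]; group
        have e2 : w * φy * w⁻¹ = φy * c := by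
          calc w * φy * w⁻¹ = (w * y * w⁻¹) * (w * c * w⁻¹) := by rw [hyc]; group
            _ = φy * c := by rw [hwA c h, mul_inv_cancel_right]
        rw [e1, hyc, mul_assoc] at e2
        exact mul_eq_left.mp e2.symm
      have hy2' : φy * φy = y * y := by
        calc φy * φy = w * (y * y) * w⁻¹ := by rw [hφy]; group
          _ = y * y := by rw [hwA _ hy2, mul_inv_cancel_right]
      calc c * y = y⁻¹ * (y * c * (y * c)) * c⁻¹ := by group
        _ = y * c⁻¹ := by rw [← hyc, hy2']; group
        _ = y * c := by rw [inv_eq_of_mul_eq_one_right hcc]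
    · -- `c` commutes with itself and with `A`
      have h' := hcA _ h
      have : c * y⁻¹ = y⁻¹ * c := by
        calc c * y⁻¹ = (c * (y⁻¹ * c)) * c⁻¹ := by group
          _ = y⁻¹ * c := by rw [h']; group
      calc c * y = y * (y⁻¹ * c) * y := by group
        _ = y * c := by rw [← this]; group
  rcases hC.mem_of_comm hcE A y hgen' hcA hcy with e | e
  · have hwy : w * y = y * w := by
      calc w * y = φy * w := by rw [hφy]; group
        _ = y * w := by rw [hyc, e, mul_one]
    rcases hC.central w (fun e' he' => by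
      rcases hgen' e' he' with h | h
      · exact hwA e' h
      · calc w * e' = w * y * (y⁻¹ * e') := by group
          _ = y * (w * (y⁻¹ * e')) := by rw [hwy, mul_assoc]
          _ = y * ((y⁻¹ * e') * w) := by rw [hwA _ h]
          _ = e' * w := by group) with e' | e' <;> rw [e']
    · exact E.one_mem
    · exact hC.z_mem
  · have hwy : w * y = y * z * w := by
      calc w * y = φy * w := by rw [hφy]; group
        _ = y * z * w := by rw [hyc, e]
    have hxy' := hC.comm_z_of_ne hxE hy hxy
    have hwz : w * z = z * w := hwA z hzA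
    have hwxy : w * x * y = y * (w * x) := by
      calc w * x * y = w * (y * x * z) := by rw [mul_assoc, hxy']
        _ = (w * y) * (x * z) := by group
        _ = y * (z * w) * (z * x) := by rw [hwy, hC.z_comm hxE]; group
        _ = y * (w * z) * (z * x) := by rw [hwz]
        _ = y * (w * ((z * z) * x)) := by group
        _ = y * (w * x) := by rw [hC.z_sq, one_mul]
    have hwxA : ∀ a ∈ A, w * x * a = a * (w * x) := fun a ha => by
      rw [mul_assoc, hxA a ha, ← mul_assoc, hwA a ha, mul_assoc]
    have : w * x ∈ E := by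
      rcases hC.central (w * x) (fun e' he' => by
        rcases hgen' e' he' with h | h
        · exact hwxA e' h
        · calc w * x * e' = w * x * y * (y⁻¹ * e') := by group
            _ = y * (w * x * (y⁻¹ * e')) := by rw [hwxy, mul_assoc]
            _ = y * ((y⁻¹ * e') * (w * x)) := by rw [hwxA _ h]
            _ = e' * (w * x) := by group) with e' | e' <;> rw [e']
      · exact E.one_mem
      · exact hC.z_mem
    simpa using E.mul_mem this (E.inv_mem hxE)

/-- A 2-subgroup containing `E` has an element of `E` normalizing a given subgroup not containing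
`E`. -/
theorem exists_normalizing (hE2 : IsPGroup 2 E) {P D : Subgroup G} (hP : IsPGroup 2 P)
    (hPH : P ≤ Subgroup.centralizer ({z} : Set G)) (hDP : D ≤ P) (hED : ¬ E ≤ D) :
    ∃ e ∈ E, e ∉ D ∧ ∀ d ∈ D, e⁻¹ * d * e ∈ D := by
  classical
  have : Fact (Nat.Prime 2) := ⟨Nat.prime_two⟩
  set base : G ⧸ D := ((1 : G) : G ⧸ D) with hbase
  have hfix : ∀ d ∈ D, d • base = base := fun d hd => (smul_eq_iff d 1).mpr (by simpa using hd)
  let O : Set (G ⧸ D) := MulAction.orbit E base
  have hstab : ∀ d : D, ∀ q ∈ O, (d : G) • q ∈ O := by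
    rintro ⟨d, hd⟩ q ⟨e, rfl⟩
    refine ⟨⟨d * e * d⁻¹, hC.normal d (hPH (hDP hd)) e e.2⟩, ?_⟩
    show (d * e * d⁻¹) • base = d • (e : G) • base
    conv_rhs => rw [← hfix d⁻¹ (D.inv_mem hd) |>.trans rfl]
    rw [mul_smul, mul_smul, hfix _ (D.inv_mem hd)]
  letI : MulAction D O :=
    { smul := fun d q => ⟨(d : G) • (q : G ⧸ D), hstab d q q.2⟩
      one_smul := fun q => Subtype.ext (one_smul G (q : G ⧸ D))
      mul_smul := fun a b q => Subtype.ext (mul_smul (a : G) (b : G) (q : G ⧸ D)) }
  have hdvd : 2 ∣ Nat.card O := by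
    obtain ⟨k, hk⟩ := hE2.card_orbit base
    rcases k with - | k
    · exfalso
      refine hED fun e he => ?_
      have hs : Subsingleton O := (Nat.card_eq_one_iff_unique.mp (hk.trans (pow_zero 2))).1
      have := congrArg Subtype.val (hs.elim ⟨(⟨e, he⟩ : E) • base, MulAction.mem_orbit _ _⟩
        ⟨base, MulAction.mem_orbit_self _⟩)
      have h1 := (smul_eq_iff (H := D) e 1).mp this
      simpa using h1
    · exact ⟨2 ^ k, by rw [show Nat.card O = 2 ^ (k + 1) from hk, pow_succ']⟩
  have hbase' : (⟨base, MulAction.mem_orbit_self _⟩ : O) ∈ MulAction.fixedPoints D O :=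
    fun d => Subtype.ext (hfix d d.2)
  obtain ⟨⟨q, e, rfl⟩, hb, hne⟩ :=
    (hP.to_le hDP).exists_fixed_point_of_prime_dvd_card_of_fixed_point O hdvd hbase'
  refine ⟨e, e.2, fun he => hne (Subtype.ext (hfix _ he).symm), fun d hd => ?_⟩
  have h1 : d • ((e : G) • base) = (e : G) • base := congrArg Subtype.val (hb ⟨d, hd⟩)
  rw [hbase, MulAction.Quotient.smul_coe, smul_eq_mul, mul_one] at h1
  exact (smul_eq_iff d (e : G)).mp h1

variable {A : Type*} [CommGroup A] (f : Subgroup.centralizer ({z} : Set G) →* A)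

/-- Doubling keeps triviality on the core when `z` maps trivially. -/
theorem kill_step {D : Subgroup G} {e : G} {he : ∀ d ∈ D, e⁻¹ * d * e ∈ D} {he2 : e * e ∈ D}
    (o : G ⧸ Subgroup.centralizer ({z} : Set G))
    (hL : ∀ p ∈ double D e he he2, p • o = o → p ∈ D) (heD : e ∉ D) (heE : e ∈ E) (hzD : z ∈ D)
    (hf : ∀ h, f h * f h = 1) (hz : orbProd _ f D o z = 1) {c : G}
    (hc : c ∈ E) (hcD : c ∈ double D e he he2) :
    orbProd _ f (double D e he he2) o c = 1 := by
  have he' : orbProd _ f (double D e he he2) o e = 1 := by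
    rw [orbProd_double_self _ f o hL heD]
    rcases hC.sq e heE with h | h <;> rw [h]
    · exact orbProd_one _ f D o
    · exact hz
  have hD : ∀ d ∈ E, d ∈ D → orbProd _ f (double D e he he2) o d = 1 := fun d hd hdD => by
    rw [orbProd_double_of_mem _ f o hL heD hdD]
    rcases hC.comm d hd e heE with h | h
    · rw [mul_assoc, h, inv_mul_cancel_left]
      exact orbProd_sq _ f hf D o d
    · rw [mul_assoc, h, mul_assoc e d z, inv_mul_cancel_left, orbProd_mul _ f D o d hzD, hz, mul_one]
      exact orbProd_sq _ f hf D o d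
  rcases mem_double.mp hcD with h | h
  · exact hD c hc h
  · have h1 := orbProd_mul _ f (double D e he he2) o e hcD
    rw [he', one_mul, hD _ (E.mul_mem heE hc) h] at h1
    exact h1.symm

/-- Doubling a subgroup trivial on the core gives triviality. -/
theorem trivial_step {D : Subgroup G} {e : G} {he : ∀ d ∈ D, e⁻¹ * d * e ∈ D} {he2 : e * e ∈ D}
    (o : G ⧸ Subgroup.centralizer ({z} : Set G))
    (hL : ∀ p ∈ double D e he he2, p • o = o → p ∈ D) (heD : e ∉ D) (heE : e ∈ E)
    (hDH : D ≤ Subgroup.centralizer ({z} : Set G)) (hzD : z ∈ D)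
    (hf : ∀ h, f h * f h = 1) (hkill : ∀ c ∈ E, c ∈ D → orbProd _ f D o c = 1) {x : G}
    (hx : x ∈ double D e he he2) : orbProd _ f (double D e he he2) o x = 1 := by
  have he' : orbProd _ f (double D e he he2) o e = 1 := by
    rw [orbProd_double_self _ f o hL heD]
    rcases hC.sq e heE with h | h <;> rw [h]
    · exact orbProd_one _ f D o
    · exact hkill z hC.z_mem hzD
  have hD : ∀ d ∈ D, orbProd _ f (double D e he he2) o d = 1 := fun d hd => by
    rw [orbProd_double_of_mem _ f o hL heD hd]
    have hcE : d⁻¹ * (e⁻¹ * d * e) ∈ E := by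
      rw [show d⁻¹ * (e⁻¹ * d * e) = (d⁻¹ * e⁻¹ * d⁻¹⁻¹) * e by group]
      exact E.mul_mem (hC.normal _ (Subgroup.inv_mem _ (hDH hd)) _ (E.inv_mem heE)) heE
    have hcD : d⁻¹ * (e⁻¹ * d * e) ∈ D := D.mul_mem (D.inv_mem hd) (he d hd)
    have e1 := orbProd_mul _ f D o d hcD
    rw [hkill _ hcE hcD, mul_one, mul_inv_cancel_left] at e1
    rw [e1]
    exact orbProd_sq _ f hf D o d
  rcases mem_double.mp hx with h | h
  · exact hD x h
  · have h1 := orbProd_mul _ f (double D e he he2) o e hx
    rw [he', one_mul, hD _ h] at h1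
    exact h1.symm

/-- Triviality over every other orbit. -/
theorem orbProd_eq_one (hE2 : IsPGroup 2 E) (hf : ∀ h, f h * f h = 1) {P : Subgroup G}
    (hEP : E ≤ P) (hPH : P ≤ Subgroup.centralizer ({z} : Set G)) (hP : IsPGroup 2 P)
    (o : G ⧸ Subgroup.centralizer ({z} : Set G)) (ho : o ≠ ((1 : G) : G ⧸ _))
    (hk1 : o.out * z * o.out⁻¹ ∈ E → ∀ c ∈ E, c • o = o →
      coc (Subgroup.centralizer ({z} : Set G)) f c o = 1)
    (hk2 : (z • o = o → coc (Subgroup.centralizer ({z} : Set G)) f z o = 1) ∨ 128 ≤ Nat.card E)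
    {p : G} (hp : p ∈ P) : orbProd (Subgroup.centralizer ({z} : Set G)) f P o p = 1 := by
  classical
  set w := o.out * z * o.out⁻¹ with hw
  have hfix : ∀ a : G, a • o = o ↔ w * a = a * w := fun a => by
    have h := smul_eq_iff (H := Subgroup.centralizer ({z} : Set G)) a o.out
    rw [QuotientGroup.out_eq'] at h
    exact h.trans (conj_mem_centralizer_iff a o.out)
  have hww : w * w = 1 := by
    rw [hw, show o.out * z * o.out⁻¹ * (o.out * z * o.out⁻¹) = o.out * (z * z) * o.out⁻¹ by group,
      hC.z_sq]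
    group
  set L : Subgroup G := P ⊓ MulAction.stabilizer G o with hLdef
  have hLP : L ≤ P := inf_le_left
  have hLmem : ∀ a ∈ P, a • o = o → a ∈ L := fun a ha h =>
    Subgroup.mem_inf.mpr ⟨ha, MulAction.mem_stabilizer_iff.mpr h⟩
  have hLfix : ∀ a ∈ L, a • o = o := fun a ha =>
    MulAction.mem_stabilizer_iff.mp (Subgroup.mem_inf.mp ha).2
  have hψ : ∀ a, orbProd (Subgroup.centralizer ({z} : Set G)) f L o a = coc (Subgroup.centralizer ({z} : Set G)) f a o := orbProd_of_fixed (Subgroup.centralizer ({z} : Set G)) f hLfix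
  have hzP : z ∈ P := hEP hC.z_mem
  have hzcomm : ∀ a ∈ P, z⁻¹ * a * z = a := fun a ha => by
    rw [mul_assoc, Subgroup.mem_centralizer_singleton_iff.mp (hPH ha), inv_mul_cancel_left]
  by_cases hzL : z ∈ L
  · have hE1 : ¬ E ≤ L := fun h => by
      rcases hC.central w fun e he => (hfix e).mp (hLfix e (h he)) with e | e
      · exact hC.z_ne (conj_eq_one_iff.mp e)
      · refine ho ?_
        refine (QuotientGroup.out_eq' o).symm.trans (QuotientGroup.eq.mpr ?_)
        rw [mul_one]
        refine Subgroup.inv_mem _ (Subgroup.mem_centralizer_singleton_iff.mpr ?_)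
        calc o.out * z = w * o.out := by rw [hw]; group
          _ = z * o.out := by rw [e]
    obtain ⟨e₁, he₁E, he₁L, he₁n⟩ := hC.exists_normalizing hE2 hP hPH hLP hE1
    have he₁2 : e₁ * e₁ ∈ L := by
      rcases hC.sq e₁ he₁E with e | e <;> rw [e]
      · exact L.one_mem
      · exact hzL
    set D₁ := double L e₁ he₁n he₁2 with hD₁
    have hD₁P : D₁ ≤ P := double_le hLP (hEP he₁E)
    have hL₁ : ∀ a ∈ D₁, a • o = o → a ∈ L := fun a ha h => hLmem a (hD₁P ha) h
    have hzD₁ : z ∈ D₁ := le_double hzL
    have hz₁ : orbProd (Subgroup.centralizer ({z} : Set G)) f D₁ o z = 1 := by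
      rw [hD₁, orbProd_double_of_mem (Subgroup.centralizer ({z} : Set G)) f o hL₁ he₁L hzL,
        show e₁⁻¹ * z * e₁ = z by rw [mul_assoc, hC.z_comm he₁E, inv_mul_cancel_left]]
      exact orbProd_sq (Subgroup.centralizer ({z} : Set G)) f hf L o z
    by_cases hED₁ : E ≤ D₁
    · -- the conjugate of `z` lies in the core
      have hgen : ∀ e ∈ E, e ∈ E ⊓ L ∨ e₁ * e ∈ E ⊓ L := fun e he => by
        rcases mem_double.mp (hED₁ he) with h | h
        · exact .inl (Subgroup.mem_inf.mpr ⟨he, h⟩)
        · exact .inr (Subgroup.mem_inf.mpr ⟨E.mul_mem he₁E he, h⟩)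
      have hwE := (hC.mem_of_half (E ⊓ L) inf_le_left (Subgroup.mem_inf.mpr ⟨hC.z_mem, hzL⟩) he₁E
        (fun h => he₁L (Subgroup.mem_inf.mp h).2) hgen hww
        (fun a ha => (hfix a).mp (hLfix a (Subgroup.mem_inf.mp ha).2))).1
      exact orbProd_eq_one_of_le (Subgroup.centralizer ({z} : Set G)) f hD₁P (fun a ha h => le_double (hLmem a ha h))
        (fun d hd => hC.trivial_step f o hL₁ he₁L he₁E (hLP.trans hPH) hzL hf
          (fun c hc hcL => by rw [hψ]; exact hk1 hwE c hc (hLfix c hcL)) hd) hp
    obtain ⟨e₂, he₂E, he₂D, he₂n⟩ := hC.exists_normalizing hE2 hP hPH hD₁P hED₁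
    have he₂2 : e₂ * e₂ ∈ D₁ := by
      rcases hC.sq e₂ he₂E with e | e <;> rw [e]
      · exact D₁.one_mem
      · exact hzD₁
    set D₂ := double D₁ e₂ he₂n he₂2 with hD₂
    have hD₂P : D₂ ≤ P := double_le hD₁P (hEP he₂E)
    have hL₂ : ∀ a ∈ D₂, a • o = o → a ∈ D₁ := fun a ha h => le_double (hLmem a (hD₂P ha) h)
    by_cases hψz : coc (Subgroup.centralizer ({z} : Set G)) f z o = 1
    · exact orbProd_eq_one_of_le (Subgroup.centralizer ({z} : Set G)) f hD₂P
        (fun a ha h => le_double (le_double (hLmem a ha h)))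
        (fun d hd => hC.trivial_step f o hL₂ he₂D he₂E (hD₁P.trans hPH) hzD₁ hf
          (fun c hc hcD => hC.kill_step f o hL₁ he₁L he₁E hzL hf (by rw [hψ]; exact hψz) hc hcD) hd)
        hp
    have hbig := hk2.resolve_left fun h => hψz (h (hLfix z hzL))
    have hED₂ : ¬ E ≤ D₂ := fun hle => by
      set A₀ := E ⊓ L with hA₀
      have hzA : z ∈ A₀ := Subgroup.mem_inf.mpr ⟨hC.z_mem, hzL⟩
      have hab : A₀ ≤ E ⊓ Subgroup.centralizer (A₀ : Set G) := fun a ha => by
        refine Subgroup.mem_inf.mpr ⟨(Subgroup.mem_inf.mp ha).1, Subgroup.mem_centralizer_iff.mpr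
          fun b hb => ?_⟩
        by_contra hne
        refine hψz ?_
        obtain ⟨haE, haL⟩ := Subgroup.mem_inf.mp ha
        obtain ⟨hbE, hbL⟩ := Subgroup.mem_inf.mp hb
        have e1 := hC.comm_z_of_ne hbE haE hne
        have hmul : ∀ u v : G, v ∈ L → coc (Subgroup.centralizer ({z} : Set G)) f (u * v) o = coc (Subgroup.centralizer ({z} : Set G)) f u o * coc (Subgroup.centralizer ({z} : Set G)) f v o :=
          fun u v hv => by rw [coc_mul, hLfix v hv]
        have hinv : ∀ u : G, u ∈ L → coc (Subgroup.centralizer ({z} : Set G)) f u⁻¹ o * coc (Subgroup.centralizer ({z} : Set G)) f u o = 1 := fun u hu => by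
          rw [← hmul _ _ hu, inv_mul_cancel, coc_one]
        have e2 : z = b⁻¹ * a⁻¹ * b * a := by
          calc z = (a * b)⁻¹ * (a * b * z) * 1 := by group
            _ = (a * b)⁻¹ * (b * a) * 1 := by rw [← e1]
            _ = _ := by group
        refine (congrArg (fun q => coc (Subgroup.centralizer ({z} : Set G)) f q o) e2).trans ?_
        rw [hmul _ _ haL, hmul _ _ hbL, hmul _ _ (L.inv_mem haL),
          mul_comm (coc (Subgroup.centralizer ({z} : Set G)) f b⁻¹ o) (coc (Subgroup.centralizer ({z} : Set G)) f a⁻¹ o), mul_assoc (coc (Subgroup.centralizer ({z} : Set G)) f a⁻¹ o), hinv b hbL, mul_one,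
          hinv a haL]
      have h1 : Nat.card A₀ ≤ Nat.card (E ⊓ Subgroup.centralizer (A₀ : Set G) : Subgroup G) :=
        Nat.card_le_card_of_injective _ (Subgroup.inclusion_injective hab)
      have h2 := hC.card_centralizer_mul A₀ inf_le_left hzA
      have h3 : Nat.card E ≤ 2 * Nat.card (E ⊓ D₁ : Subgroup G) :=
        card_le_two_mul (E ⊓ D₁) e₂ fun e he => by
          rcases mem_double.mp (hle he) with h | h
          · exact .inl (Subgroup.mem_inf.mpr ⟨he, h⟩)
          · exact .inr (Subgroup.mem_inf.mpr ⟨E.mul_mem he₂E he, h⟩)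
      have h4 : Nat.card (E ⊓ D₁ : Subgroup G) ≤ 2 * Nat.card A₀ :=
        card_le_two_mul A₀ e₁ fun e he => by
          obtain ⟨he', heD⟩ := Subgroup.mem_inf.mp he
          rcases mem_double.mp heD with h | h
          · exact .inl (Subgroup.mem_inf.mpr ⟨he', h⟩)
          · exact .inr (Subgroup.mem_inf.mpr ⟨E.mul_mem he₁E he', h⟩)
      have h5 : Nat.card A₀ * Nat.card A₀ ≤ 2 * Nat.card E := h2 ▸ Nat.mul_le_mul_right _ h1
      have h6 : Nat.card A₀ ≤ 8 := by nlinarith
      omega
    obtain ⟨e₃, he₃E, he₃D, he₃n⟩ := hC.exists_normalizing hE2 hP hPH hD₂P hED₂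
    have hzD₂ : z ∈ D₂ := le_double hzD₁
    have he₃2 : e₃ * e₃ ∈ D₂ := by
      rcases hC.sq e₃ he₃E with e | e <;> rw [e]
      · exact D₂.one_mem
      · exact hzD₂
    have hD₃P : double D₂ e₃ he₃n he₃2 ≤ P := double_le hD₂P (hEP he₃E)
    exact orbProd_eq_one_of_le (Subgroup.centralizer ({z} : Set G)) f hD₃P
      (fun a ha h => le_double (le_double (le_double (hLmem a ha h))))
      (fun d hd => hC.trivial_step f o (fun a ha h => le_double (le_double (hLmem a (hD₃P ha) h)))
        he₃D he₃E (hD₂P.trans hPH) hzD₂ hf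
        (fun c hc hcD => hC.kill_step f o hL₂ he₂D he₂E hzD₁ hf hz₁ hc hcD) hd) hp
  · -- `z` moves `o`
    have he : ∀ a ∈ L, z⁻¹ * a * z ∈ L := fun a ha => by rw [hzcomm a (hLP ha)]; exact ha
    have he2 : z * z ∈ L := by rw [hC.z_sq]; exact L.one_mem
    have hDP : double L z he he2 ≤ P := double_le hLP hzP
    have hL₁ : ∀ a ∈ double L z he he2, a • o = o → a ∈ L := fun a ha h => hLmem a (hDP ha) h
    refine orbProd_eq_one_of_le (Subgroup.centralizer ({z} : Set G)) f hDP (fun a ha h => le_double (hLmem a ha h)) (fun d hd => ?_) hp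
    have hz1 : orbProd (Subgroup.centralizer ({z} : Set G)) f (double L z he he2) o z = 1 := by
      rw [orbProd_double_self (Subgroup.centralizer ({z} : Set G)) f o hL₁ hzL, hC.z_sq]
      exact orbProd_one (Subgroup.centralizer ({z} : Set G)) f L o
    have hD : ∀ a ∈ L, orbProd (Subgroup.centralizer ({z} : Set G)) f (double L z he he2) o a = 1 := fun a ha => by
      rw [orbProd_double_of_mem (Subgroup.centralizer ({z} : Set G)) f o hL₁ hzL ha, hzcomm a (hLP ha)]
      exact orbProd_sq (Subgroup.centralizer ({z} : Set G)) f hf L o a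
    rcases mem_double.mp hd with h | h
    · exact hD d h
    · have h1 := orbProd_mul (Subgroup.centralizer ({z} : Set G)) f (double L z he he2) o z hd
      rw [hz1, one_mul, hD _ h] at h1
      exact h1.symm

end Core

end CfsgLib.Large
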