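import Cfsg.Agent.Lib.Large.OrbitParity
import Mathlib.GroupTheory.Abelianization.Defs
import Mathlib.GroupTheory.Exponent

/-!
# The abelianization of the centralizer and fusion of `z` into the core
-/

set_option autoImplicit false
set_option linter.unusedSectionVars false

namespace CfsgLib.Large

open Cfsg

variable {G : Type*} [Group G] [Finite G] {z : G} {E : Subgroup G}

/-- A 2-group containing the core and an element on which a given homomorphism agrees. -/
theorem exists_two_group (hC : Core z E) (hE2 : IsPGroup 2 E) {A : Type*} [CommGroup A]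
    (f : Subgroup.centralizer ({z} : Set G) →* A) (hf : ∀ h, f h * f h = 1)
    (h : Subgroup.centralizer ({z} : Set G)) :
    ∃ (P : Subgroup G) (hPH : P ≤ Subgroup.centralizer ({z} : Set G)) (t : G) (ht : t ∈ P),
      E ≤ P ∧ IsPGroup 2 P ∧ f ⟨t, hPH ht⟩ = f h := by
  classical
  set m := ordCompl[2] (orderOf h) with hm
  have hodd : m % 2 = 1 := by
    have := Nat.not_dvd_ordCompl (p := 2) Nat.prime_two (orderOf_pos h).ne'
    omega
  have hfm : f (h ^ m) = f h := by
    rw [map_pow, show m = 2 * (m / 2) + 1 by omega, pow_succ, pow_mul, pow_two, hf, one_pow,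
      one_mul]
  set t : G := ((h ^ m : Subgroup.centralizer ({z} : Set G)) : G) with htdef
  have htH : t ∈ Subgroup.centralizer ({z} : Set G) := (h ^ m).2
  have ht2 : IsPGroup 2 (Subgroup.zpowers t) := by
    refine IsPGroup.of_card_dvd_pow (n := (orderOf h).factorization 2) ?_
    rw [Nat.card_zpowers, htdef, Subgroup.orderOf_coe, orderOf_dvd_iff_pow_eq_one, ← pow_mul, hm,
      mul_comm, Nat.ordProj_mul_ordCompl_eq_self, pow_orderOf_eq_one]
  have hnorm : Subgroup.zpowers t ≤ Subgroup.normalizer (E : Set G) := by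
    refine Subgroup.zpowers_le.mpr (Subgroup.mem_normalizer_iff.mpr fun e => ⟨hC.normal t htH e,
      fun he => ?_⟩)
    have := hC.normal t⁻¹ (Subgroup.inv_mem _ htH) _ he
    convert this using 1
    group
  exact ⟨E ⊔ Subgroup.zpowers t, sup_le hC.le (Subgroup.zpowers_le.mpr htH), t,
    Subgroup.mem_sup_right (Subgroup.mem_zpowers t), le_sup_left,
    IsPGroup.to_sup_of_normal_left' hE2 ht2 hnorm, hfm⟩

/-- The conjugate of `z` attached to another coset is not `z`. -/
theorem out_conj_ne {o : G ⧸ Subgroup.centralizer ({z} : Set G)}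
    (ho : o ≠ ((1 : G) : G ⧸ Subgroup.centralizer ({z} : Set G))) :
    o.out * z * o.out⁻¹ ≠ z := fun e => by
  refine ho ((QuotientGroup.out_eq' o).symm.trans (QuotientGroup.eq.mpr ?_))
  rw [mul_one]
  refine Subgroup.inv_mem _ (Subgroup.mem_centralizer_singleton_iff.mpr ?_)
  calc o.out * z = o.out * z * o.out⁻¹ * o.out := by group
    _ = z * o.out := by rw [e]

/-- `z` is fused into the core when the centralizer has a subgroup of index two. -/
theorem exists_fused (hres : pResidual 2 G = ⊤) (hC : Core z E) (hE2 : IsPGroup 2 E)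
    (hcard : 128 ≤ Nat.card E) (K : Subgroup G)
    (hKi : K.relIndex (Subgroup.centralizer ({z} : Set G)) = 2) :
    ∃ g : G, g * z * g⁻¹ ∈ E ∧ g * z * g⁻¹ ≠ z := by
  classical
  by_contra hno
  set H := Subgroup.centralizer ({z} : Set G) with hH
  let f : H →* ℤˣ :=
    { toFun := fun h => if (h : G) ∈ K then 1 else -1
      map_one' := by simp [K.one_mem]
      map_mul' := fun a b => by
        have := Subgroup.mul_mem_iff_of_index_two (H := K.subgroupOf H) hKi (a := a) (b := b)
        simp only [Subgroup.mem_subgroupOf, Subgroup.coe_mul] at this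
        simp only [Subgroup.coe_mul]
        by_cases ha : (a : G) ∈ K <;> by_cases hb : (b : G) ∈ K <;> simp [this, ha, hb] }
  have hf : ∀ h, f h * f h = 1 := fun h => Int.units_mul_self _
  obtain ⟨h, hh⟩ : ∃ h : H, f h ≠ 1 := by
    by_contra hall
    push Not at hall
    have : K.subgroupOf H = ⊤ := by
      refine Subgroup.eq_top_iff' _ |>.mpr fun x => ?_
      by_contra hx
      rw [Subgroup.mem_subgroupOf] at hx
      have hv : f x = -1 := if_neg hx
      rw [hall x] at hv
      exact absurd hv (by decide)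
    have h2 : (K.subgroupOf H).index = 2 := hKi
    rw [this, Subgroup.index_top] at h2
    exact absurd h2 (by norm_num)
  obtain ⟨P, hPH, t, ht, hEP, hP, hfe⟩ := exists_two_group hC hE2 f hf h
  refine hh (hfe ▸ apply_eq_one_of_orbits H f hres hf P hPH (fun o ho p hp =>
    hC.orbProd_eq_one f hE2 hf hEP hPH hP o ho (fun hw => ?_) (.inr hcard) hp) ht)
  exact absurd ⟨o.out, hw, out_conj_ne ho⟩ hno

/-- The 2-part of the abelianization of the centralizer has exponent at most two. -/
theorem abelianization_sq_eq_one (hres : pResidual 2 G = ⊤) (hC : Core z E) (hE2 : IsPGroup 2 E)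
    (q : Abelianization (Subgroup.centralizer ({z} : Set G))) (hq : ∃ k : ℕ, orderOf q = 2 ^ k) :
    q ^ 2 = 1 := by
  classical
  by_contra hq2
  obtain ⟨k, hk⟩ := hq
  set N := Monoid.exponent (Abelianization (Subgroup.centralizer ({z} : Set G))) with hN
  have hN0 : N ≠ 0 := Monoid.exponent_ne_zero_of_finite
  have h4 : 4 ∣ N := by
    refine dvd_trans ?_ (Monoid.order_dvd_exponent q)
    rw [hk]
    refine Nat.pow_dvd_pow 2 (m := 2) ?_
    by_contra hlt
    exact hq2 (orderOf_dvd_iff_pow_eq_one.mp (hk ▸ (Nat.pow_dvd_pow 2 (n := 1) (by omega))))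
  obtain ⟨N₀, hN₀⟩ := h4
  let f₀ : (Subgroup.centralizer ({z} : Set G)) →* Abelianization (Subgroup.centralizer ({z} : Set G)) := (powMonoidHom N₀).comp Abelianization.of
  let f : (Subgroup.centralizer ({z} : Set G)) →* Abelianization (Subgroup.centralizer ({z} : Set G)) := (powMonoidHom (2 * N₀)).comp Abelianization.of
  have hff : ∀ x, f x = f₀ (x * x) := fun x => by
    simp only [f, f₀, MonoidHom.comp_apply, powMonoidHom_apply, map_mul, mul_pow, pow_mul, pow_two]
  have hf : ∀ x, f x * f x = 1 := fun x => by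
    simp only [f, MonoidHom.comp_apply, powMonoidHom_apply, ← pow_add]
    rw [show 2 * N₀ + 2 * N₀ = N by omega, hN, Monoid.pow_exponent_eq_one]
  obtain ⟨h, hh⟩ : ∃ h : (Subgroup.centralizer ({z} : Set G)), f h ≠ 1 := by
    by_contra hall
    push Not at hall
    have hdvd : N ∣ 2 * N₀ := Monoid.exponent_dvd_iff_forall_pow_eq_one.mpr fun a => by
      induction a using QuotientGroup.induction_on with
      | _ a => exact hall a
    have := Nat.le_of_dvd (by omega) hdvd
    omega
  obtain ⟨P, hPH, t, ht, hEP, hP, hfe⟩ := exists_two_group hC hE2 f hf h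
  -- the value at an element fixing a coset
  have hval : ∀ (o : G ⧸ (Subgroup.centralizer ({z} : Set G))) (c : G) (hc : c • o = o),
      ∃ u : (Subgroup.centralizer ({z} : Set G)), (u : G) = o.out⁻¹ * c * o.out ∧ coc (Subgroup.centralizer ({z} : Set G)) f c o = f₀ (u * u) := fun o c hc => by
    refine ⟨⟨(c • o).out⁻¹ * c * o.out, ?_⟩, by rw [Subtype.coe_mk, hc], hff _⟩
    rw [mul_assoc]
    refine QuotientGroup.eq.mp ?_
    rw [← smul_eq_mul, ← MulAction.Quotient.smul_coe, QuotientGroup.out_eq', QuotientGroup.out_eq']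
  refine hh (hfe ▸ apply_eq_one_of_orbits (Subgroup.centralizer ({z} : Set G)) f hres hf P hPH (fun o ho p hp =>
    hC.orbProd_eq_one f hE2 hf hEP hPH hP o ho (fun hw c hc hco => ?_) (.inl fun hzo => ?_) hp) ht)
  · obtain ⟨u, hu, huv⟩ := hval o c hco
    rw [huv]
    rcases hC.sq c hc with e | e
    · rw [show u * u = 1 from Subtype.ext (by
        rw [Subgroup.coe_mul, hu, show o.out⁻¹ * c * o.out * (o.out⁻¹ * c * o.out) =
          o.out⁻¹ * (c * c) * o.out by group, e, Subgroup.coe_one]
        group), map_one]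
    · set w := o.out * z * o.out⁻¹ with hwdef
      have hw1 : w ≠ 1 := fun h => hC.z_ne (conj_eq_one_iff.mp h)
      have hwz : w ≠ z := out_conj_ne ho
      have hww : w * w = 1 := by
        rw [hwdef, show o.out * z * o.out⁻¹ * (o.out * z * o.out⁻¹) = o.out * (z * z) * o.out⁻¹ by
          group, hC.z_sq]
        group
      have hfix : ∀ a : G, a • o = o ↔ w * a = a * w := fun a => by
        have h := smul_eq_iff (H := Subgroup.centralizer ({z} : Set G)) a o.out
        rw [QuotientGroup.out_eq'] at h
        exact h.trans (conj_mem_centralizer_iff a o.out)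
      set B : Subgroup G := E ⊓ Subgroup.centralizer ({w} : Set G) with hB
      have hmemB : ∀ a, a ∈ B ↔ a ∈ E ∧ w * a = a * w := fun a => by
        rw [hB, Subgroup.mem_inf, Subgroup.mem_centralizer_singleton_iff]
        exact ⟨fun h => ⟨h.1, h.2.symm⟩, fun h => ⟨h.1, h.2.symm⟩⟩
      by_cases hab : ∃ a ∈ B, ∃ b ∈ B, a * b ≠ b * a
      · obtain ⟨a, ha, b, hb, hne⟩ := hab
        obtain ⟨haE, haw⟩ := (hmemB a).mp ha
        obtain ⟨hbE, hbw⟩ := (hmemB b).mp hb
        obtain ⟨ua, hua, -⟩ := hval o a ((hfix a).mpr haw)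
        obtain ⟨ub, hub, -⟩ := hval o b ((hfix b).mpr hbw)
        have e1 := hC.comm_z_of_ne haE hbE hne
        have e2 : u * u = ua⁻¹ * ub⁻¹ * ua * ub := Subtype.ext (by
          simp only [Subgroup.coe_mul, Subgroup.coe_inv, hu, hua, hub]
          calc o.out⁻¹ * c * o.out * (o.out⁻¹ * c * o.out)
              = o.out⁻¹ * ((b * a)⁻¹ * (b * a * (c * c))) * o.out := by group
            _ = o.out⁻¹ * ((b * a)⁻¹ * (a * b)) * o.out := by rw [e, ← e1]
            _ = _ := by group)
        rw [e2, map_mul, map_mul, map_mul, mul_comm (f₀ ua⁻¹) (f₀ ub⁻¹), mul_assoc (f₀ ub⁻¹),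
          ← map_mul f₀ ua⁻¹ ua, inv_mul_cancel, map_one, mul_one, ← map_mul, inv_mul_cancel, map_one]
      · exfalso
        push Not at hab
        obtain ⟨y, hy, hyw⟩ := hC.exists_not_comm hw1 hwz
        have hzB : z ∈ B := (hmemB z).mpr ⟨hC.z_mem, (hC.z_comm hw).symm⟩
        have h1 := hC.card_centralizer_mul B inf_le_left hzB
        have h2 : Nat.card B ≤ Nat.card (E ⊓ Subgroup.centralizer (B : Set G) : Subgroup G) :=
          Nat.card_le_card_of_injective _ (Subgroup.inclusion_injective fun a ha =>
            Subgroup.mem_inf.mpr ⟨((hmemB a).mp ha).1,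
              Subgroup.mem_centralizer_iff.mpr fun b hb => hab b hb a ha⟩)
        have h3 : Nat.card E ≤ 2 * Nat.card B := Core.card_le_two_mul B y⁻¹ fun a ha => by
          by_cases h : a * w = w * a
          · exact .inl ((hmemB a).mpr ⟨ha, h.symm⟩)
          · exact .inr ((hmemB _).mpr ⟨E.mul_mem (E.inv_mem hy) ha,
              (hC.comm_mul_of_not hw hy ha hyw h).symm⟩)
        have h4 : Nat.card B * Nat.card B ≤ 2 * Nat.card E := h1 ▸ Nat.mul_le_mul_right _ h2
        have h5 : Nat.card B ≤ 4 := by nlinarith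
        have hwzc : w * z = z * w := (hC.z_comm hw).symm
        set S : Finset G := {1, z, w, w * z, c}
        have hnotc : ∀ s : G, s * s = 1 → c ≠ s := fun s hs h => hC.z_ne (by rw [← e, h, hs])
        have hS : S.card = 5 := by
          have d1 : w * z ≠ 1 := fun h => hwz (by rw [eq_inv_of_mul_eq_one_left h, hC.z_inv])
          have d2 : w * z ≠ z := fun h => hw1 (mul_eq_right.mp h)
          have d3 : w * z ≠ w := fun h => hC.z_ne (mul_eq_left.mp h)
          have c1 := hnotc 1 (one_mul 1)
          have c2 := hnotc z hC.z_sq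
          have c3 := hnotc w hww
          have c4 := hnotc (w * z) (by
            rw [show w * z * (w * z) = w * (z * w) * z by group, ← hwzc,
              show w * (w * z) * z = (w * w) * (z * z) by group, hww, hC.z_sq, one_mul])
          simp [S, hC.z_ne.symm, hw1.symm, hwz.symm, d1.symm, d2.symm, d3.symm, c1.symm, c2.symm,
            c3.symm, c4.symm]
        have hSB : (S : Set G) ⊆ (B : Set G) := fun a ha => by
          simp only [S, Finset.coe_insert, Finset.coe_singleton, Set.mem_insert_iff,
            Set.mem_singleton_iff] at ha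
          have hwB : w ∈ B := (hmemB w).mpr ⟨hw, rfl⟩
          rcases ha with rfl | rfl | rfl | rfl | rfl
          · exact B.one_mem
          · exact hzB
          · exact hwB
          · exact B.mul_mem hwB hzB
          · exact (hmemB _).mpr ⟨hc, (hfix _).mp hco⟩
        have h6 := Set.ncard_le_ncard hSB (Set.toFinite _)
        rw [Set.ncard_coe_finset, hS, ← Nat.card_coe_set_eq] at h6
        have h7 : Nat.card (B : Set G) = Nat.card B := rfl
        omega
  · obtain ⟨u, hu, huv⟩ := hval o z hzo
    rw [huv, show u * u = 1 from Subtype.ext (by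
      rw [Subgroup.coe_mul, hu, show o.out⁻¹ * z * o.out * (o.out⁻¹ * z * o.out) =
        o.out⁻¹ * (z * z) * o.out by group, hC.z_sq, Subgroup.coe_one]
      group), map_one]

end CfsgLib.Large
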